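import Mathlib
import Cfsg.Agent.H48.Crit
set_option linter.all false

/-!
# A criterion for the `p`-part of the Schur multiplier: extraspecial Sylow subgroup of order `p ^ 3`

`noCov_heis`: `⟨a, b⟩` of index prime to `p`, `c = ⁅a, b⁆ ≠ 1` commutes with `a`, `b`, `a ^ p = c ^ m`, and an element `t`
with `t a t⁻¹ = a ^ i c ^ k`, `t b t⁻¹ = b ^ j c ^ l`, `p ∤ i * i * j - 1`, `p ∤ i * j * j - 1`.
(The multiplier of `p ^ (1 + 2)` is `V ⊗ det`.)
-/

set_option autoImplicit false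
set_option linter.style.haveILetI false
set_option linter.unusedVariables false

namespace Cfsg.Agent.H58.Crit

open Subgroup
open scoped commutatorElement
open Cfsg.Agent.H51.Mult
open Cfsg.Agent.CpQuot
open Cfsg.Agent.H48.Crit

universe u v

section calc1

variable {G : Type*} [Group G]

/-- `a ^ m b ^ n = c ^ (m n) (b ^ n a ^ m)` if `a b = c b a` and `c` commutes with `a`, `b` -/
theorem zpow_swap {a b c : G} (h : a * b = c * (b * a)) (hca : c * a = a * c) (hcb : c * b = b * c) (m n : ℤ) :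
    a ^ m * b ^ n = c ^ (m * n) * (b ^ n * a ^ m) := by
  have h2 : b⁻¹ * a * b = c * a := by
    calc b⁻¹ * a * b = b⁻¹ * (a * b) := by group
      _ = b⁻¹ * (c * (b * a)) := by rw [h]
      _ = b⁻¹ * (c * b) * a := by group
      _ = b⁻¹ * (b * c) * a := by rw [hcb]
      _ = c * a := by group
  have h1 : a ^ m * b = c ^ m * (b * a ^ m) := by
    have h3 : b⁻¹ * a ^ m * b = c ^ m * a ^ m := by
      have h4 : (b⁻¹ * a * b) ^ m = b⁻¹ * a ^ m * b := by
        have := conj_zpow (i := m) (a := b⁻¹) (b := a)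
        rwa [inv_inv] at this
      rw [← h4, h2]
      exact (show Commute c a from hca).mul_zpow m
    calc a ^ m * b = b * (b⁻¹ * a ^ m * b) := by group
      _ = b * (c ^ m * a ^ m) := by rw [h3]
      _ = (b * c ^ m) * a ^ m := by group
      _ = (c ^ m * b) * a ^ m := by rw [((show Commute c b from hcb).zpow_left m).eq]
      _ = _ := by group
  have h5 : a ^ m * b * (a ^ m)⁻¹ = c ^ m * b := by rw [h1]; group
  have h6 : a ^ m * b ^ n * (a ^ m)⁻¹ = c ^ (m * n) * b ^ n := by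
    rw [← conj_zpow, h5, ((show Commute c b from hcb).zpow_left m).mul_zpow, ← zpow_mul]
  calc a ^ m * b ^ n = (a ^ m * b ^ n * (a ^ m)⁻¹) * a ^ m := by group
    _ = c ^ (m * n) * b ^ n * a ^ m := by rw [h6]
    _ = _ := by group

/-- the commutator of powers in a class two situation -/
theorem comm_zpow {a b c : G} (h : ⁅a, b⁆ = c) (hca : c * a = a * c) (hcb : c * b = b * c) (i j k l : ℤ) :
    ⁅a ^ i * c ^ k, b ^ j * c ^ l⁆ = c ^ (i * j) := by
  have h0 : a * b = c * (b * a) := by rw [← h, commutatorElement_def]; group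
  have h1 := zpow_swap h0 hca hcb i j
  have ca : ∀ r s : ℤ, c ^ r * a ^ s = a ^ s * c ^ r := fun r s => ((show Commute c a from hca).zpow_zpow r s).eq
  have cb : ∀ r s : ℤ, c ^ r * b ^ s = b ^ s * c ^ r := fun r s => ((show Commute c b from hcb).zpow_zpow r s).eq
  have cc : ∀ r s : ℤ, c ^ r * c ^ s = c ^ s * c ^ r := fun r s => ((Commute.refl c).zpow_zpow r s).eq
  have e1 : (a ^ i * c ^ k) * (b ^ j * c ^ l) = c ^ (i * j) * ((b ^ j * c ^ l) * (a ^ i * c ^ k)) := by
    calc (a ^ i * c ^ k) * (b ^ j * c ^ l) = a ^ i * (c ^ k * b ^ j) * c ^ l := by group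
      _ = (a ^ i * b ^ j) * (c ^ k * c ^ l) := by rw [cb]; group
      _ = c ^ (i * j) * (b ^ j * a ^ i) * (c ^ l * c ^ k) := by rw [h1, cc]
      _ = c ^ (i * j) * (b ^ j * (a ^ i * c ^ l) * c ^ k) := by group
      _ = c ^ (i * j) * (b ^ j * (c ^ l * a ^ i) * c ^ k) := by rw [ca]
      _ = _ := by group
  rw [commutatorElement_def, e1]
  group

end calc1

/-- `⁅x, y ^ n⁆ = ⁅x, y⁆ ^ n` if `⁅x, y⁆` is central -/
theorem comm_zpow_right {K : Type*} [Group K] {x y : K} (h : ⁅x, y⁆ ∈ center K) (n : ℤ) : ⁅x, y ^ n⁆ = ⁅x, y⁆ ^ n := by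
  have hc := commute_center h
  have h1 : x * y * x⁻¹ = ⁅x, y⁆ * y := by rw [commutatorElement_def]; group
  have h2 : x * y ^ n * x⁻¹ = ⁅x, y⁆ ^ n * y ^ n := by
    rw [← conj_zpow, h1]
    exact (show Commute ⁅x, y⁆ y from hc y).mul_zpow n
  rw [commutatorElement_def, h2, mul_inv_cancel_right]

theorem comm_zpow_left {K : Type*} [Group K] {x y : K} (h : ⁅x, y⁆ ∈ center K) (n : ℤ) : ⁅x ^ n, y⁆ = ⁅x, y⁆ ^ n := by
  have h' : ⁅y, x⁆ ∈ center K := by rw [← commutatorElement_inv]; exact inv_mem h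
  rw [← commutatorElement_inv, comm_zpow_right h', ← commutatorElement_inv x y, inv_zpow, inv_inv]

/-- **Extraspecial Sylow subgroup of order `p ^ 3`**, general torus element. -/
theorem noCov_heis {X : Type v} [Group X] {p : ℕ} (hp : p.Prime) {a b c t : X} (hab : ⁅a, b⁆ = c)
    (hc1 : c ≠ 1) (hca : c * a = a * c) (hcb : c * b = b * c) {m : ℤ} (ha : a ^ p = c ^ m)
    {i j k l : ℤ} (hta : t * a * t⁻¹ = a ^ i * c ^ k) (htb : t * b * t⁻¹ = b ^ j * c ^ l)
    (hd1 : ¬ (p : ℤ) ∣ i * i * j - 1) (hd2 : ¬ (p : ℤ) ∣ i * j * j - 1)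
    (hidx : ¬ p ∣ (closure ({a, b} : Set X)).index) : NoCov p X := by
  intro L _ _ π h hcard
  have hP : IsPGroup p π.ker := IsPGroup.of_card (n := 1) (by rw [hcard, pow_one])
  obtain ⟨a, rfl⟩ := h.surj a
  obtain ⟨b, rfl⟩ := h.surj b
  obtain ⟨t, rfl⟩ := h.surj t
  have hpc : π ⁅a, b⁆ = c := by rw [map_commutatorElement, hab]
  set c' := ⁅a, b⁆ with hcdef
  subst hpc
  have mk : ∀ {x : L}, π x = 1 → x ∈ center L := fun hx => h.cen (MonoidHom.mem_ker.2 hx)
  have hz1 : ⁅c', a⁆ ∈ center L := mk (by rw [map_commutatorElement, commutatorElement_eq_one_iff_mul_comm]; exact hca)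
  have hz2 : ⁅c', b⁆ ∈ center L := mk (by rw [map_commutatorElement, commutatorElement_eq_one_iff_mul_comm]; exact hcb)
  -- the action of `t`
  have hza : t * a * t⁻¹ * (a ^ i * c' ^ k)⁻¹ ∈ center L := by
    apply mk
    simp only [map_mul, map_inv, map_zpow]
    rw [hta, mul_inv_cancel]
  have hzb : t * b * t⁻¹ * (b ^ j * c' ^ l)⁻¹ ∈ center L := by
    apply mk
    simp only [map_mul, map_inv, map_zpow]
    rw [htb, mul_inv_cancel]
  -- the image of the commutator
  have hbase : (π t) * (π c') * (π t)⁻¹ = (π c') ^ (i * j) := by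
    have e1 : (π t) * (π c') * (π t)⁻¹ = ⁅(π a) ^ i * (π c') ^ k, (π b) ^ j * (π c') ^ l⁆ := by
      rw [← hta, ← htb, hcdef, map_commutatorElement]
      simp only [commutatorElement_def]; group
    rw [e1]
    exact comm_zpow hab hca hcb i j k l
  have hzc : t * c' * t⁻¹ * (c' ^ (i * j))⁻¹ ∈ center L := by
    apply mk
    simp only [map_mul, map_inv, map_zpow]
    rw [hbase, mul_inv_cancel]
  have htc' : t * c' * t⁻¹ = (t * c' * t⁻¹ * (c' ^ (i * j))⁻¹) * c' ^ (i * j) := by rw [inv_mul_cancel_right]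
  have conjc : ∀ x y : L, t * ⁅x, y⁆ * t⁻¹ = ⁅t * x * t⁻¹, t * y * t⁻¹⁆ := by
    intro x y
    simp only [commutatorElement_def]; group
  have kill : ∀ (x : L) (e n : ℤ), ¬ (p : ℤ) ∣ i * j * e - 1 → ⁅c', x⁆ ∈ center L → π ⁅c', x⁆ = 1 →
      (t * x * t⁻¹ * (x ^ e * c' ^ n)⁻¹ ∈ center L) → ⁅c', x⁆ = 1 := by
    intro x e n hd hx hx1 hxt
    have e1 : t * ⁅c', x⁆ * t⁻¹ = ⁅c', x⁆ := by rw [← commute_center hx t, mul_inv_cancel_right]
    have e2 : t * x * t⁻¹ = (t * x * t⁻¹ * (x ^ e * c' ^ n)⁻¹) * (x ^ e * c' ^ n) := by rw [inv_mul_cancel_right]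
    have e3 : t * ⁅c', x⁆ * t⁻¹ = ⁅c' ^ (i * j), x ^ e * c' ^ n⁆ := by
      rw [conjc, e2, htc']
      exact comm_mul_center hzc hxt _ _
    have e4 : ⁅c' ^ (i * j), x ^ e * c' ^ n⁆ = ⁅c' ^ (i * j), x ^ e⁆ :=
      comm_mul_of_comm ((Commute.refl c').zpow_zpow _ _)
    have e5 : ⁅c' ^ (i * j), x⁆ = ⁅c', x⁆ ^ (i * j) := comm_zpow_left hx _
    have e6 : ⁅c' ^ (i * j), x ^ e⁆ = ⁅c', x⁆ ^ (i * j * e) := by
      rw [comm_zpow_right (by rw [e5]; exact zpow_mem hx _), e5, ← zpow_mul]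
    rw [e1, e4, e6] at e3
    have e7 : ⁅c', x⁆ ^ (i * j * e - 1) = 1 := by
      rw [zpow_sub, zpow_one, ← e3, mul_inv_cancel]
    have e8 : ⁅c', x⁆ ^ p = 1 := by
      have h1 : (⟨⁅c', x⁆, MonoidHom.mem_ker.2 hx1⟩ : π.ker) ^ p = 1 := by rw [← hcard, pow_card_eq_one']
      exact congrArg Subtype.val h1
    rcases (Nat.dvd_prime hp).1 (orderOf_dvd_of_pow_eq_one e8) with h2 | h2
    · exact orderOf_eq_one_iff.1 h2
    · exfalso
      apply hd
      rw [← h2]
      exact orderOf_dvd_iff_zpow_eq_one.2 e7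
  have ka : ⁅c', a⁆ = 1 := kill a i k (by rwa [show i * j * i = i * i * j by ring]) hz1
    (by rw [map_commutatorElement, commutatorElement_eq_one_iff_mul_comm]; exact hca) hza
  have kb : ⁅c', b⁆ = 1 := kill b j l hd2 hz2
    (by rw [map_commutatorElement, commutatorElement_eq_one_iff_mul_comm]; exact hcb) hzb
  rw [commutatorElement_eq_one_iff_mul_comm] at ka kb
  -- `c' ^ p = 1`
  have hap : ∃ z ∈ center L, a ^ p = z * c' ^ m := by
    refine ⟨a ^ p * (c' ^ m)⁻¹, mk ?_, by rw [inv_mul_cancel_right]⟩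
    simp only [map_mul, map_inv, map_pow, map_zpow]
    rw [ha, mul_inv_cancel]
  obtain ⟨z, hz, hap⟩ := hap
  have hapb : a ^ p * b = b * a ^ p := by
    rw [hap]
    have h1 : c' ^ m * b = b * c' ^ m := (Commute.zpow_left (show Commute c' b from kb) m)
    rw [mul_assoc, h1, ← mul_assoc, commute_center hz b, mul_assoc]
  have hab2 : a * b = c' * (b * a) := by rw [hcdef, commutatorElement_def]; group
  have hcp : c' ^ p = 1 := by
    have h1 := zpow_swap hab2 ka kb p 1
    rw [zpow_one, mul_one, zpow_natCast, zpow_natCast, hapb] at h1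
    exact (mul_eq_right.1 h1.symm)
  -- the kernel lies in `zpowers c'`
  have hle : π.ker ≤ zpowers c' := by
    refine ker_le h hp hP (s := {a, b}) ?_ ?_ ?_
    · rwa [Set.image_pair]
    · have hz : ∀ x : L, c' * x = x * c' → ∀ c ∈ zpowers c', x * c * x⁻¹ ∈ zpowers c' := by
        intro x hx c hc
        obtain ⟨n, rfl⟩ := mem_zpowers_iff.1 hc
        have h1 : Commute (c' ^ n) x := Commute.zpow_left hx n
        rw [← h1.eq, mul_inv_cancel_right]
        exact hc
      rintro x (rfl | rfl)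
      · exact hz _ ka
      · exact hz _ kb
    · rintro x (rfl | rfl) y (rfl | rfl)
      · rw [commutatorElement_self]; exact one_mem _
      · exact mem_zpowers _
      · exact Pairs.swap_mem (mem_zpowers _)
      · rw [commutatorElement_self]; exact one_mem _
  -- so it is `zpowers c'`
  have hcard' : Nat.card ↥(zpowers c') ∣ p := by
    rw [Nat.card_zpowers]; exact orderOf_dvd_of_pow_eq_one hcp
  have heq : π.ker = zpowers c' := by
    apply Subgroup.eq_of_le_of_card_ge hle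
    rw [hcard]
    exact Nat.le_of_dvd hp.pos hcard'
  apply hc1
  have : c' ∈ π.ker := by rw [heq]; exact mem_zpowers _
  exact this

end Cfsg.Agent.H58.Crit
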