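import Mathlib
import Cfsg.Agent.H58.Crit
import Cfsg.Agent.H52.OddLift
import Cfsg.Agent.H48.Crit2
import Cfsg.Agent.H51.Tools
import Cfsg.Agent.McLType.Model
import Cfsg.Agent.FastGrp
import Cfsg.Agent.Prune
set_option linter.all false
prune_inst 0x7f00000000000000000000000000000000000000000000000000000000000000000000000000000000000000000000000000000000000000000000000000000000000000000000000000000000000000003fffffffffffffffffffffffffffbeffbdffffffff
open scoped Cfsg.Agent.FastGrp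

-- part: H58/Cyc5
section
/-!
# A criterion for the `p`-part of the Schur multiplier: `p ^ (1 + 4)` with an element of order five

`bd_cyc5`: `j` an involution, `a` of order `p` inverted by `j`, `t` of order five commuting with `j`, `z ≠ 1` commuting
with `a`, `j`, `t`; the conjugates `a_i = t ^ i a t ^ (- i)` satisfy `⁅a_0, a_1⁆ = z`, `⁅a_0, a_2⁆ = z ^ n`; an element `u`
commuting with `j` and normalising `Q = ⟨a_0, ..., a_4⟩`.  If the index of `⟨Q, u⟩` is prime to `p` then the `p`-part of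
the multiplier has order at most `p`.

Proof: lift `j` to an involution, `a` to an element inverted by it.  The commutators of the lifts of `a_i` are, by the
action of `t`, `α = ⁅a_0, a_1⁆`, `β = ⁅a_0, a_2⁆` and their inverses; they are central in the lift of `Q`, so that the
kernel is contained in `⟨α, β⟩`.
-/

set_option autoImplicit false
set_option linter.style.haveILetI false
set_option linter.unusedVariables false

namespace Cfsg.Agent.H58.Cyc5

open Subgroup
open scoped commutatorElement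
open Cfsg.Agent.H51.Mult
open Cfsg.Agent.CpQuot
open Cfsg.Agent.H48.Crit
open Cfsg.Agent.H52.OddLift

universe u v

/-- the conjugates -/
def cj {G : Type*} [Group G] (t a : G) (i : ℤ) : G := t ^ i * a * (t ^ i)⁻¹

theorem cj_zero {G : Type*} [Group G] (t a : G) : cj t a 0 = a := by simp [cj]

theorem cj_conj {G : Type*} [Group G] (t a : G) (i k : ℤ) : t ^ k * cj t a i * (t ^ k)⁻¹ = cj t a (k + i) := by
  simp only [cj, zpow_add]; group

theorem map_cj {G H : Type*} [Group G] [Group H] (f : G →* H) (t a : G) (i : ℤ) :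
    f (cj t a i) = cj (f t) (f a) i := by
  simp only [cj, map_mul, map_inv, map_zpow]

theorem conj_comm {G : Type*} [Group G] (t x y : G) : t * ⁅x, y⁆ * t⁻¹ = ⁅t * x * t⁻¹, t * y * t⁻¹⁆ := by
  simp only [commutatorElement_def]; group

section pgroup

variable {L : Type u} {X : Type v} [Group L] [Group X] {π : L →* X}

/-- an odd order element whose square lies in a subgroup lies in it -/
theorem mem_of_sq {W : Subgroup L} {x : L} {n : ℕ} (hn : x ^ (2 * n + 1) = 1) (h : x * x ∈ W) : x ∈ W := by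
  have h1 : (x * x) ^ n * x = 1 := by rw [← pow_two, ← pow_mul, ← pow_succ]; exact hn
  have h2 : x = ((x * x) ^ n)⁻¹ := eq_inv_of_mul_eq_one_right h1
  rw [h2]
  exact inv_mem (pow_mem h n)

end pgroup

/-- **The criterion.** -/
theorem bd_cyc5 {X : Type v} [Group X] {p : ℕ} (hp : p.Prime) (hp2 : p ≠ 2) (hp5 : p ≠ 5) {a t j u z : X}
    (hj : j * j = 1) (ha : a ^ p = 1) (hja : j * a * j⁻¹ = a⁻¹) (ht : t ^ 5 = 1) (htj : t * j = j * t)
    (huj : u * j = j * u) (hz : ⁅a, cj t a 1⁆ = z) (hz1 : z ≠ 1) {n : ℤ} (hy : ⁅a, cj t a 2⁆ = z ^ n)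
    (hza : z * a = a * z) (hzj : z * j = j * z) (hzt : z * t = t * z)
    (hu : ∀ i : ℤ, u * cj t a i * u⁻¹ ∈ closure (Set.range (cj t a)))
    (hidx : ¬ p ∣ (closure (insert u (Set.range (cj t a)))).index) : Bd p 1 X := by
  intro L _ _ π h hP
  have hO := oext_of_pce h hp hp2 hP
  obtain ⟨N, hN⟩ := hO.odd
  have hcop2 : Nat.Coprime p 2 := (Nat.coprime_primes hp Nat.prime_two).2 hp2
  have hcop5 : Nat.Coprime p 5 := (Nat.coprime_primes hp (by norm_num)).2 hp5
  -- lifts
  obtain ⟨J, hJ, hJJ⟩ := hO.exists_inv hj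
  have hJi : J⁻¹ = J := inv_eq_of_mul_eq_one_left hJJ
  obtain ⟨T, hT⟩ := h.surj t
  obtain ⟨U, hU⟩ := h.surj u
  have mk : ∀ {x : L}, π x = 1 → x ∈ center L := fun hx => h.cen (MonoidHom.mem_ker.2 hx)
  -- the inverted lift of `a`
  obtain ⟨A, hA, hJA⟩ : ∃ A : L, π A = a ∧ J * A * J⁻¹ = A⁻¹ := by
    obtain ⟨A0, hA0⟩ := h.surj a
    have hc1 : π (J * A0 * J⁻¹ * A0) = 1 := by
      simp only [map_mul, map_inv, hJ, hA0]
      rw [hja, inv_mul_cancel]
    set c := J * A0 * J⁻¹ * A0 with hc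
    have hcc := commute_center (mk hc1)
    have hcN := hN c hc1
    refine ⟨c ^ N * A0, ?_, ?_⟩
    · rw [map_mul, map_pow, hc1, one_pow, one_mul, hA0]
    · have e1 : J * A0 * J⁻¹ = c * A0⁻¹ := by rw [hc]; group
      have e2 : c ^ N * J = J * c ^ N := (Commute.pow_left (show Commute c J from hcc J) N)
      have e3 : c ^ N * A0⁻¹ = A0⁻¹ * c ^ N := (Commute.pow_left (show Commute c A0⁻¹ from hcc A0⁻¹) N)
      have e4 : J * (c ^ N * A0) * J⁻¹ = c ^ N * (J * A0 * J⁻¹) := by
        calc J * (c ^ N * A0) * J⁻¹ = (J * c ^ N) * A0 * J⁻¹ := by group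
          _ = (c ^ N * J) * A0 * J⁻¹ := by rw [e2]
          _ = _ := by group
      rw [e4, e1, mul_inv_rev, ← mul_assoc, ← pow_succ]
      have e5 : c ^ (N + 1) = (c ^ N)⁻¹ := by
        rw [eq_inv_iff_mul_eq_one, ← pow_add]
        rw [← hcN]; congr 1; ring
      rw [e5]
      have e6 : Commute (c ^ N)⁻¹ A0⁻¹ := Commute.inv_left e3
      exact e6.eq
  -- commuting lifts
  have hTJ : T * J = J * T := by
    have h1 : ⁅T, J⁆ = 1 := Pairs.comm_eq_one (n := 2) h.cen hP (by rw [hT, hJ, htj]) hcop2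
      (by rw [hJ, pow_two, hj])
    exact commutatorElement_eq_one_iff_mul_comm.1 h1
  have hUJ : U * J = J * U := by
    have h1 : ⁅U, J⁆ = 1 := Pairs.comm_eq_one (n := 2) h.cen hP (by rw [hU, hJ, huj]) hcop2
      (by rw [hJ, pow_two, hj])
    exact commutatorElement_eq_one_iff_mul_comm.1 h1
  -- the lift of `⟨z⟩`
  have zJ : ∀ x : L, π x ∈ zpowers z → x * J = J * x := by
    intro x hx
    obtain ⟨k, hk⟩ := mem_zpowers_iff.1 hx
    have h1 : ⁅x, J⁆ = 1 := Pairs.comm_eq_one (n := 2) h.cen hP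
      (by rw [← hk, hJ]; exact (Commute.zpow_left (show Commute z j from hzj) k)) hcop2 (by rw [hJ, pow_two, hj])
    exact commutatorElement_eq_one_iff_mul_comm.1 h1
  have zT : ∀ x : L, π x ∈ zpowers z → x * T = T * x := by
    intro x hx
    obtain ⟨k, hk⟩ := mem_zpowers_iff.1 hx
    have h1 : ⁅x, T⁆ = 1 := Pairs.comm_eq_one (n := 5) h.cen hP
      (by rw [← hk, hT]; exact (Commute.zpow_left (show Commute z t from hzt) k)) hcop5 (by rw [hT, ht])
    exact commutatorElement_eq_one_iff_mul_comm.1 h1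
  have zA : ∀ x : L, π x ∈ zpowers z → x * A = A * x := by
    intro x hx
    obtain ⟨k, hk⟩ := mem_zpowers_iff.1 hx
    have h0 : π x * π A = π A * π x := by
      rw [← hk, hA]; exact (Commute.zpow_left (show Commute z a from hza) k)
    have h1 : ⁅x, A⁆ ∈ center L := Pairs.comm_mem_center h.cen h0
    have h2 : J * ⁅x, A⁆ * J⁻¹ = ⁅x, A⁆⁻¹ := by
      rw [conj_comm, hJA, ← zJ x hx, mul_inv_cancel_right, comm_inv_right h1]
    have h3 : J * ⁅x, A⁆ * J⁻¹ = ⁅x, A⁆ := by rw [← commute_center h1 J, mul_inv_cancel_right]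
    rw [h3] at h2
    have h4 : ⁅x, A⁆ * ⁅x, A⁆ = 1 := by
      nth_rewrite 2 [h2]
      rw [mul_inv_cancel]
    have h5 : π ⁅x, A⁆ = 1 := by
      rw [map_commutatorElement, commutatorElement_eq_one_iff_mul_comm, h0]
    exact commutatorElement_eq_one_iff_mul_comm.1 (hO.one_of_sq h5 h4)
  have zC : ∀ x : L, π x ∈ zpowers z → ∀ i, x * cj T A i = cj T A i * x := by
    intro x hx i
    have h1 : Commute x (T ^ i) := Commute.zpow_right (show Commute x T from zT x hx) i
    exact (h1.mul_right (show Commute x A from zA x hx)).mul_right h1.inv_right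
  -- the fifth power
  have hT5 : T ^ (5 : ℤ) ∈ center L := mk (by
    rw [map_zpow, hT]
    exact_mod_cast ht)
  have cj5 : ∀ i k : ℤ, cj T A (i + 5 * k) = cj T A i := by
    intro i k
    have h1 : T ^ (5 * k) ∈ center L := by rw [zpow_mul]; exact zpow_mem hT5 k
    have h2 := commute_center h1
    rw [add_comm, ← cj_conj, h2, mul_inv_cancel_right]
  -- `α`, `β`
  set α := ⁅A, cj T A 1⁆ with hα
  set β := ⁅A, cj T A 2⁆ with hβ
  have pα : π α = z := by rw [hα, map_commutatorElement, map_cj, hA, hT, hz]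
  have pβ : π β = z ^ n := by rw [hβ, map_commutatorElement, map_cj, hA, hT, hy]
  have zα : π α ∈ zpowers z := by rw [pα]; exact mem_zpowers z
  have zβ : π β ∈ zpowers z := by rw [pβ]; exact zpow_mem (mem_zpowers z) n
  set W : Subgroup L := closure {α, β} with hW
  have zW : ∀ x ∈ W, π x ∈ zpowers z := by
    have : W ≤ (zpowers z).comap π := by
      rw [hW, closure_le]
      rintro x (rfl | rfl)
      · exact zα
      · exact zβ
    exact this
  have αW : α ∈ W := subset_closure (by simp)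
  have βW : β ∈ W := subset_closure (by simp)
  have hinvC : ∀ i, J * cj T A i * J⁻¹ = (cj T A i)⁻¹ := by
    intro i
    have h1 : Commute J (T ^ i) := Commute.zpow_right (show Commute J T from hTJ.symm) i
    have h2 : J * T ^ i = T ^ i * J := h1
    calc J * cj T A i * J⁻¹ = (J * T ^ i) * A * (J * T ^ i)⁻¹ := by rw [cj]; group
      _ = T ^ i * (J * A * J⁻¹) * (T ^ i)⁻¹ := by rw [h2]; group
      _ = (cj T A i)⁻¹ := by rw [hJA, cj]; group
  have Tfix : ∀ x : L, π x ∈ zpowers z → ∀ k : ℤ, T ^ k * x * (T ^ k)⁻¹ = x := by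
    intro x hx k
    have h1 : Commute x (T ^ k) := Commute.zpow_right (show Commute x T from zT x hx) k
    rw [← h1.eq, mul_inv_cancel_right]
  have comm0 : ∀ m : ℤ, ⁅A, cj T A m⁆ ∈ W := by
    intro m
    have h1 : cj T A m = cj T A (m % 5) := by
      conv_lhs => rw [← Int.emod_add_mul_ediv m 5]
      exact cj5 _ _
    rw [h1]
    have h2 : m % 5 = 0 ∨ m % 5 = 1 ∨ m % 5 = 2 ∨ m % 5 = 3 ∨ m % 5 = 4 := by omega
    rcases h2 with h2 | h2 | h2 | h2 | h2 <;> rw [h2]
    · rw [cj_zero, commutatorElement_self]; exact one_mem _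
    · exact αW
    · exact βW
    · have e1 : T ^ (3 : ℤ) * ⁅cj T A 2, A⁆ * (T ^ (3 : ℤ))⁻¹ = ⁅A, cj T A 3⁆ := by
        rw [conj_comm, cj_conj, show (3 : ℤ) + 2 = 0 + 5 * 1 by norm_num, cj5, cj_zero]
        rfl
      have e2 : ⁅cj T A 2, A⁆ = β⁻¹ := by rw [hβ, commutatorElement_inv]
      rw [← e1, e2, Tfix _ (by rw [map_inv]; exact inv_mem zβ)]
      exact inv_mem βW
    · have e1 : T ^ (4 : ℤ) * ⁅cj T A 1, A⁆ * (T ^ (4 : ℤ))⁻¹ = ⁅A, cj T A 4⁆ := by
        rw [conj_comm, cj_conj, show (4 : ℤ) + 1 = 0 + 5 * 1 by norm_num, cj5, cj_zero]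
        rfl
      have e2 : ⁅cj T A 1, A⁆ = α⁻¹ := by rw [hα, commutatorElement_inv]
      rw [← e1, e2, Tfix _ (by rw [map_inv]; exact inv_mem zα)]
      exact inv_mem αW
  have comm1 : ∀ i k : ℤ, ⁅cj T A i, cj T A k⁆ ∈ W := by
    intro i k
    have e1 : T ^ i * ⁅A, cj T A (k - i)⁆ * (T ^ i)⁻¹ = ⁅cj T A i, cj T A k⁆ := by
      rw [conj_comm, cj_conj, add_sub_cancel]
      rfl
    rw [← e1, Tfix _ (zW _ (comm0 _))]
    exact comm0 _
  -- `D`
  set D : Subgroup L := closure (Set.range (cj T A)) with hD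
  have zD : ∀ x : L, π x ∈ zpowers z → ∀ d ∈ D, x * d = d * x := by
    intro x hx d hd
    have : D ≤ centralizer {x} := by
      rw [hD, closure_le]
      rintro _ ⟨i, rfl⟩
      rw [SetLike.mem_coe, mem_centralizer_singleton_iff]
      exact (zC x hx i).symm
    exact (mem_centralizer_singleton_iff.1 (this hd)).symm
  have hDD : ∀ x ∈ D, ∀ y ∈ D, ⁅x, y⁆ ∈ W := by
    have h1 : ⁅D, D⁆ ≤ W := by
      rw [hD]
      apply commutator_le_of_gen
      · rintro _ ⟨i, rfl⟩ c hc
        rw [← zC c (zW c hc), mul_inv_cancel_right]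
        exact hc
      · rintro _ ⟨i, rfl⟩ _ ⟨k, rfl⟩
        exact comm1 i k
    intro x hx y hy
    exact h1 (commutator_mem_commutator hx hy)
  have hWD : W ≤ D := by
    rw [hW, closure_le]
    have m0 : A ∈ D := by rw [← cj_zero T A]; exact subset_closure ⟨0, rfl⟩
    have hcm : ∀ x ∈ D, ∀ y ∈ D, ⁅x, y⁆ ∈ D := by
      intro x hx y hy
      rw [commutatorElement_def]
      exact mul_mem (mul_mem (mul_mem hx hy) (inv_mem hx)) (inv_mem hy)
    rintro x (rfl | rfl)
    · exact hcm _ m0 _ (subset_closure ⟨1, rfl⟩)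
    · exact hcm _ m0 _ (subset_closure ⟨2, rfl⟩)
  -- the action of `J` on `D`
  have hJD : ∀ x ∈ D, ∃ c ∈ W, J * x * J⁻¹ = x⁻¹ * c := by
    intro x hx
    rw [hD] at hx
    induction hx using closure_induction with
    | mem x hx =>
      obtain ⟨i, rfl⟩ := hx
      exact ⟨1, one_mem _, by rw [hinvC, mul_one]⟩
    | one => exact ⟨1, one_mem _, by group⟩
    | mul x y hx hy h1 h2 =>
      obtain ⟨c, hc, h1⟩ := h1
      obtain ⟨d, hd, h2⟩ := h2
      refine ⟨⁅x, y⁆ * (c * d), mul_mem (hDD x hx y hy) (mul_mem hc hd), ?_⟩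
      have e0 : ⁅x, y⁆ * (y * x) = x * y := by rw [commutatorElement_def]; group
      have e1 : c * y⁻¹ = y⁻¹ * c := zD c (zW c hc) _ (inv_mem hy)
      calc J * (x * y) * J⁻¹ = (J * x * J⁻¹) * (J * y * J⁻¹) := by group
        _ = x⁻¹ * (c * y⁻¹) * d := by rw [h1, h2]; group
        _ = (y * x)⁻¹ * (c * d) := by rw [e1]; group
        _ = (x * y)⁻¹ * (⁅x, y⁆ * (c * d)) := by
          have e2 : (x * y)⁻¹ * ⁅x, y⁆ = (y * x)⁻¹ := by
            rw [← e0, mul_inv_rev, inv_mul_cancel_right]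
          rw [← e2, mul_assoc]
    | inv x hx h1 =>
      obtain ⟨c, hc, h1⟩ := h1
      refine ⟨c⁻¹, inv_mem hc, ?_⟩
      have e1 : c⁻¹ * x = x * c⁻¹ := zD c⁻¹ (zW _ (inv_mem hc)) _ hx
      calc J * x⁻¹ * J⁻¹ = (J * x * J⁻¹)⁻¹ := by group
        _ = c⁻¹ * x := by rw [h1]; group
        _ = x⁻¹⁻¹ * c⁻¹ := by rw [e1, inv_inv]
  -- odd order of elements over `⟨z⟩`
  have hap : A ^ p = 1 := by
    have h1 : π (A ^ p) = 1 := by rw [map_pow, hA, ha]
    have h2 : A ^ p ∈ center L := mk h1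
    have h3 : J * A ^ p * J⁻¹ = (A ^ p)⁻¹ := by rw [← conj_pow, hJA, inv_pow]
    rw [← commute_center h2, mul_inv_cancel_right] at h3
    apply hO.one_of_sq h1
    nth_rewrite 2 [h3]
    rw [mul_inv_cancel]
  have hαp : α ^ p = 1 := by
    have e0 : A * cj T A 1 = α * (cj T A 1 * A) := by rw [hα, commutatorElement_def]; group
    have e1 := Crit.zpow_swap e0 (zA α zα) (zC α zα 1) p 1
    rw [zpow_one, mul_one, zpow_natCast, zpow_natCast, hap, one_mul, mul_one] at e1
    exact (mul_eq_right.1 e1.symm)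
  have hβp : β ^ p = 1 := by
    have e0 : A * cj T A 2 = β * (cj T A 2 * A) := by rw [hβ, commutatorElement_def]; group
    have e1 := Crit.zpow_swap e0 (zA β zβ) (zC β zβ 2) p 1
    rw [zpow_one, mul_one, zpow_natCast, zpow_natCast, hap, one_mul, mul_one] at e1
    exact (mul_eq_right.1 e1.symm)
  have hzp : z ^ p = 1 := by rw [← pα, ← map_pow, hαp, map_one]
  have hodd : ∀ x : L, π x ∈ zpowers z → x * x ∈ W → x ∈ W := by
    intro x hx hxx
    obtain ⟨k, hk⟩ := mem_zpowers_iff.1 hx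
    have h1 : π (x ^ p) = 1 := by
      rw [map_pow, ← hk, ← zpow_natCast, ← zpow_mul, mul_comm, zpow_mul, zpow_natCast, hzp, one_zpow]
    have h2 := hN _ h1
    rw [← pow_mul] at h2
    obtain ⟨q, hq⟩ := hp.odd_of_ne_two hp2
    have h3 : p * (2 * N + 1) = 2 * (p * N + q) + 1 := by rw [hq]; ring
    rw [h3] at h2
    exact mem_of_sq h2 hxx
  have hDz : ∀ x ∈ D, π x ∈ zpowers z → x ∈ W := by
    intro x hx hxz
    apply hodd x hxz
    obtain ⟨c, hc, h1⟩ := hJD x hx
    rw [← zJ x hxz, mul_inv_cancel_right] at h1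
    have h2 : x * x = c := by
      nth_rewrite 2 [h1]
      rw [mul_inv_cancel_left]
    rw [h2]; exact hc
  -- inverted elements over `π D` lie in `D`
  have hinvD : ∀ x : L, J * x * J⁻¹ = x⁻¹ → π x ∈ closure (Set.range (cj t a)) → x ∈ D := by
    intro x hxJ hx
    have h1 : closure (Set.range (cj t a)) = D.map π := by
      rw [hD, MonoidHom.map_closure, ← Set.range_comp]
      congr 2
      funext i
      rw [Function.comp_apply, map_cj, hT, hA]
    rw [h1] at hx
    obtain ⟨d, hd, hdx⟩ := hx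
    have h2 : π (d⁻¹ * x) = 1 := by rw [map_mul, map_inv, hdx, inv_mul_cancel]
    set w := d⁻¹ * x with hw
    have hwx : x = d * w := by rw [hw, mul_inv_cancel_left]
    have hwc := commute_center (mk h2)
    obtain ⟨c, hc, h3⟩ := hJD d hd
    have h4 : w * w ∈ W := by
      have e1 : J * x * J⁻¹ = d⁻¹ * c * w := by
        calc J * x * J⁻¹ = J * d * (w * J⁻¹) := by rw [hwx]; group
          _ = J * d * (J⁻¹ * w) := by rw [hwc]
          _ = (J * d * J⁻¹) * w := by group
          _ = _ := by rw [h3]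
      rw [hxJ, hwx, mul_inv_rev] at e1
      have e2 : w⁻¹ * d⁻¹ = d⁻¹ * w⁻¹ := by
        have := (show Commute w d from hwc d)
        exact (this.inv_inv).eq
      rw [e2, mul_assoc] at e1
      have e3 : w⁻¹ = c * w := mul_left_cancel e1
      have e4 : w * w = c⁻¹ := by
        have e5 : c⁻¹ * w⁻¹ = w := by rw [e3, inv_mul_cancel_left]
        calc w * w = w * (c⁻¹ * w⁻¹) := by rw [e5]
          _ = (w * c⁻¹) * w⁻¹ := by group
          _ = c⁻¹ := by rw [hwc, mul_inv_cancel_right]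
      rw [e4]; exact inv_mem hc
    have h5 : w ∈ W := hodd w (by rw [h2]; exact one_mem _) h4
    rw [hwx]
    exact mul_mem hd (hWD h5)
  have hUc : ∀ i, U * cj T A i * U⁻¹ ∈ D := by
    intro i
    apply hinvD
    · have h1 : J * U = U * J := hUJ.symm
      calc J * (U * cj T A i * U⁻¹) * J⁻¹ = (J * U) * cj T A i * (J * U)⁻¹ := by group
        _ = U * (J * cj T A i * J⁻¹) * U⁻¹ := by rw [h1]; group
        _ = _ := by rw [hinvC]; group
    · rw [map_mul, map_mul, map_inv, map_cj, hU, hT, hA]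
      exact hu i
  have hUD : ∀ d ∈ D, U * d * U⁻¹ ∈ D := by
    have : D ≤ D.comap (MulAut.conj U).toMonoidHom := by
      conv_lhs => rw [hD]
      rw [closure_le]
      rintro _ ⟨i, rfl⟩
      exact hUc i
    intro d hd
    exact this hd
  -- the kernel is contained in `D`, hence in `W`
  have hkD : π.ker ≤ D := by
    refine ker_le h hp hP (s := insert U (Set.range (cj T A))) ?_ ?_ ?_
    · have e1 : π '' (insert U (Set.range (cj T A))) = insert u (Set.range (cj t a)) := by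
        rw [Set.image_insert_eq, hU, ← Set.range_comp]
        congr 2
        funext i
        rw [Function.comp_apply, map_cj, hT, hA]
      rwa [e1]
    · rintro x (rfl | ⟨i, rfl⟩) c hc
      · exact hUD c hc
      · have m : cj T A i ∈ D := subset_closure ⟨i, rfl⟩
        exact mul_mem (mul_mem m hc) (inv_mem m)
    · have h1 : ∀ i, ⁅U, cj T A i⁆ ∈ D := by
        intro i
        rw [commutatorElement_def]
        exact mul_mem (hUc i) (inv_mem (subset_closure ⟨i, rfl⟩))
      rintro x (rfl | ⟨i, rfl⟩) y (rfl | ⟨k, rfl⟩)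
      · rw [commutatorElement_self]; exact one_mem _
      · exact h1 k
      · exact Pairs.swap_mem (h1 i)
      · exact hWD (comm1 i k)
  have hkW : π.ker ≤ W := fun x hx => hDz x (hkD hx) (by rw [MonoidHom.mem_ker.1 hx]; exact one_mem _)
  -- the order of `W`
  have hab : α * β = β * α := zD α zα β (hWD βW)
  have hWcard : Nat.card W ∣ p ^ 2 := by
    let f : ↥(zpowers α) × ↥(zpowers β) →* L := MonoidHom.noncommCoprod (zpowers α).subtype (zpowers β).subtype (by
      rintro ⟨x, hx⟩ ⟨y, hy⟩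
      obtain ⟨i, rfl⟩ := mem_zpowers_iff.1 hx
      obtain ⟨k, rfl⟩ := mem_zpowers_iff.1 hy
      exact (show Commute α β from hab).zpow_zpow i k)
    have hWle : W ≤ f.range := by
      rw [hW, closure_le]
      rintro x (rfl | rfl)
      · exact ⟨(⟨α, mem_zpowers _⟩, 1), by simp [f]⟩
      · exact ⟨(1, ⟨β, mem_zpowers _⟩), by simp [f]⟩
    have h1 : Nat.card f.range ∣ Nat.card ↥(zpowers α) * Nat.card ↥(zpowers β) := by
      rw [← Nat.card_prod]
      exact Subgroup.card_range_dvd f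
    have h2 : Nat.card ↥(zpowers α) ∣ p := by
      rw [Nat.card_zpowers]; exact orderOf_dvd_of_pow_eq_one hαp
    have h3 : Nat.card ↥(zpowers β) ∣ p := by
      rw [Nat.card_zpowers]; exact orderOf_dvd_of_pow_eq_one hβp
    rw [pow_two]
    exact ((Subgroup.card_dvd_of_le hWle).trans h1).trans (mul_dvd_mul h2 h3)
  have hk2 : Nat.card π.ker ∣ p ^ 2 := (Subgroup.card_dvd_of_le hkW).trans hWcard
  have hk1 : Nat.card π.ker ∣ p ^ 1 := by
    obtain ⟨m, hm, hm'⟩ := (Nat.dvd_prime_pow hp).1 hk2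
    rw [hm']
    apply pow_dvd_pow
    by_contra hlt
    have hm2 : m = 2 := by omega
    subst hm2
    have h1 : π.ker = W := by
      apply Subgroup.eq_of_le_of_card_ge hkW
      rw [hm']
      exact Nat.le_of_dvd (pow_pos hp.pos 2) hWcard
    apply hz1
    rw [← pα]
    have : α ∈ π.ker := by rw [h1]; exact αW
    exact this
  refine ⟨?_, hk1⟩
  haveI : Fact p.Prime := ⟨hp⟩
  rw [pow_one] at hk1
  rcases (Nat.dvd_prime hp).1 hk1 with h1 | h1
  · haveI := (Nat.card_eq_one_iff_unique.1 h1).1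
    infer_instance
  · exact isCyclic_of_prime_card h1

end Cfsg.Agent.H58.Cyc5
end

-- part: H58/PChain
section
/-!
# Lower bounds for the orders of `p`-subgroups given by generators

`step`, `step_comm`: adjoining to a `p`-group `⟨s⟩` an element `b ∉ ⟨s⟩` of order `p` which normalises it.
-/

set_option autoImplicit false
set_option linter.unusedVariables false

namespace Cfsg.Agent.H58.PChain

open Subgroup
open scoped commutatorElement

universe v

variable {X : Type v} [Group X] [Finite X] {p : ℕ}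

theorem pow_dvd_of_lt (hp : p.Prime) {K K' : Subgroup X} (hK' : IsPGroup p K') (hlt : K < K') {n : ℕ}
    (h : p ^ n ∣ Nat.card K) : p ^ (n + 1) ∣ Nat.card K' := by
  haveI : Fact p.Prime := ⟨hp⟩
  obtain ⟨k, hk⟩ := hK'.exists_card_eq
  obtain ⟨l, hl⟩ := (hK'.to_le hlt.le).exists_card_eq
  have h1 : Nat.card K < Nat.card K' := by
    rcases lt_or_ge (Nat.card K) (Nat.card K') with h2 | h2
    · exact h2
    · exact absurd (Subgroup.eq_of_le_of_card_ge hlt.le h2) hlt.ne
  rw [hk] at h1 ⊢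
  rw [hl] at h1 h
  have h2 : l < k := (Nat.pow_lt_pow_iff_right hp.one_lt).1 h1
  have h3 : n ≤ l := (Nat.pow_dvd_pow_iff_le_right hp.one_lt).1 h
  exact pow_dvd_pow p (by omega)

theorem step (hp : p.Prime) {s : Set X} {b : X} {n : ℕ}
    (hs : IsPGroup p (closure s) ∧ p ^ n ∣ Nat.card (closure s)) (hn : ∀ x ∈ s, b * x * b⁻¹ ∈ closure s)
    (hb : b ^ p = 1) (hbs : b ∉ closure s) :
    IsPGroup p (closure (insert b s)) ∧ p ^ (n + 1) ∣ Nat.card (closure (insert b s)) := by
  have h1 : IsPGroup p (closure (insert b s)) := H48.Crit.isPGroup_insert hs.1 hn (n := 1) (by rwa [pow_one])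
  refine ⟨h1, pow_dvd_of_lt hp h1 ?_ hs.2⟩
  refine lt_of_le_of_ne (closure_mono (Set.subset_insert b s)) ?_
  intro e
  apply hbs
  rw [e]
  exact subset_closure (Set.mem_insert b s)

/-- version with a commutator test -/
theorem step_comm (hp : p.Prime) {s : Set X} {b c : X} {n : ℕ}
    (hs : IsPGroup p (closure s) ∧ p ^ n ∣ Nat.card (closure s)) (hn : ∀ x ∈ s, b * x * b⁻¹ ∈ closure s)
    (hb : b ^ p = 1) (hc : ∀ x ∈ s, x * c = c * x) (hbc : b * c ≠ c * b) :
    IsPGroup p (closure (insert b s)) ∧ p ^ (n + 1) ∣ Nat.card (closure (insert b s)) := by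
  refine step hp hs hn hb ?_
  intro hm
  apply hbc
  have h1 : closure s ≤ centralizer {c} := by
    rw [closure_le]
    intro x hx
    rw [SetLike.mem_coe, mem_centralizer_singleton_iff]
    exact hc x hx
  exact mem_centralizer_singleton_iff.1 (h1 hm)

theorem base (hp : p.Prime) {z : X} (hz : z ^ p = 1) (hz1 : z ≠ 1) :
    IsPGroup p (closure ({z} : Set X)) ∧ p ^ 1 ∣ Nat.card (closure ({z} : Set X)) := by
  rw [← zpowers_eq_closure]
  refine ⟨H48.Crit.isPGroup_zpowers (n := 1) (by rwa [pow_one]), ?_⟩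
  rw [pow_one, Nat.card_zpowers]
  rcases (Nat.dvd_prime hp).1 (orderOf_dvd_of_pow_eq_one hz) with h | h
  · exact absurd (orderOf_eq_one_iff.1 h) hz1
  · rw [h]

/-- conjugation of a commuting element -/
theorem conj_mem_of_comm {s : Set X} {b x : X} (hx : x ∈ s) (h : b * x = x * b) : b * x * b⁻¹ ∈ closure s := by
  rw [h, mul_inv_cancel_right]; exact subset_closure hx

/-- conjugation of an element, commutator in the group -/
theorem conj_mem_of_comm' {s : Set X} {b x c : X} (hx : x ∈ s) (hc : c ∈ closure s) (h : ⁅b, x⁆ = c) :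
    b * x * b⁻¹ ∈ closure s := by
  have e : b * x * b⁻¹ = ⁅b, x⁆ * x := by rw [commutatorElement_def]; group
  rw [e, h]
  exact mul_mem hc (subset_closure hx)

end Cfsg.Agent.H58.PChain
end

-- part: H58/McLOdd
section
/-!
# The odd part of the Schur multiplier of the McLaughlin group (helper58)

`noCov_five`: a Sylow 5-subgroup `5 ^ (1 + 2)` and an involution inverting it modulo the centre.
`bd_three`: `3 ^ (1 + 4)` with an element of order five, an involution `j` and an element `u` of order three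
(criterion `bd_cyc5`). All elements are words in the seven involutions of `McLType.Gens`.
-/

set_option autoImplicit false
set_option maxRecDepth 100000

namespace Cfsg.Agent.H58.McLOdd

open Cfsg.Agent.SporadicStructure.PermChain Cfsg.Agent.McLType.X275 Cfsg.Agent.McLType.Gens Cfsg.Agent.McLType.Model
open Cfsg.Agent.H51.Mult
open scoped commutatorElement

/-- the letters -/
noncomputable def lt (c : ℕ) : G1 := m ⟨c % 7, Nat.mod_lt c (by norm_num)⟩

/-- the action of a letter -/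
noncomputable def st (c i : ℕ) : ℕ := look 9 (tabs.getD (c % 7) 0) i

/-- the value of a word -/
noncomputable def wd (w : List ℕ) : G1 := (w.map lt).prod

/-- the action of a word on a point -/
noncomputable def app (w : List ℕ) (i : ℕ) : ℕ := List.rec (motive := fun _ => ℕ) i (fun c _ ih => st c ih) w

theorem wd_app (v w : List ℕ) : wd (v ++ w) = wd v * wd w := by simp [wd]

theorem wd_cons (c : ℕ) (w : List ℕ) : wd (c :: w) = lt c * wd w := by simp [wd]

theorem ψ_lt (c : ℕ) (i : Fin 275) : (ψ (lt c) i : ℕ) = st c i := by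
  rw [lt, ψ_m, σ_spec]; rfl

theorem app_spec (w : List ℕ) (i : Fin 275) : (ψ (wd w) i : ℕ) = app w i := by
  induction w with
  | nil =>
    show (ψ (1 : G1) i : ℕ) = _
    rw [map_one]; rfl
  | cons c w ih =>
    rw [wd_cons, map_mul]
    show (ψ (lt c) (ψ (wd w) i) : ℕ) = st c (app w i)
    rw [ψ_lt, ih]

/-- the check of the equality of two words -/
noncomputable def chk (v w : List ℕ) : Bool := allBelow (fun i => Nat.beq (app v i) (app w i)) 275

theorem eq_of_chk {v w : List ℕ} (h : chk v w = true) : wd v = wd w := by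
  apply ψ_injective
  refine Equiv.ext fun i => Fin.ext ?_
  rw [app_spec, app_spec]
  exact Nat.eq_of_beq_eq_true (allBelow_spec _ _ h i i.2)

section base
open Cfsg.Agent.McLType.Chain

private theorem inK_st {K K' : Subgroup (Equiv.Perm (Fin 275))} {L : List ℕ} (b : Fin 275) (h : ∀ t ∈ L, InK 9 K t)
    (hK : K ≤ K') (hf : L.all (fun t => Nat.beq (look 9 t b) b) = true) :
    ∀ t ∈ L, InK 9 (K' ⊓ MulAction.stabilizer _ b) t := by
  intro t ht
  obtain ⟨τ, hτ, e⟩ := h t ht
  exact ⟨τ, ⟨hK hτ, Fin.ext ((e b).trans (Nat.eq_of_beq_eq_true (List.all_eq_true.1 hf t ht)))⟩, e⟩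

private theorem st_step {K : Subgroup (Equiv.Perm (Fin 275))} {L : List ℕ} {b : Fin 275} {d mask n : ℕ}
    (hL : ∀ t ∈ L, InK 9 K t) (hmask : Nat.beq (grow 9 275 L d (Nat.shiftLeft 1 b)) mask = true)
    (hn : ((Finset.range 275).filter fun y => Nat.testBit mask y = true).card = n) :
    n * Nat.card (K ⊓ MulAction.stabilizer _ b : Subgroup (Equiv.Perm (Fin 275))) ≤ Nat.card K :=
  card_step_mask (w := 9) K b _ inf_le_left (fun _ hg => MulAction.mem_stabilizer_iff.1 (Subgroup.mem_inf.1 hg).2) L hL d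
    mask n hmask hn

/-- the five points `0, 7, 69, 10, 133` are a base -/
theorem eq_one_base5 {g : G1} (h0 : ψ g 0 = 0) (h1 : ψ g 7 = 7) (h2 : ψ g 69 = 69) (h3 : ψ g 10 = 10)
    (h4 : ψ g 133 = 133) : g = 1 := by
  have hK : K0 ≤ ψ.range := (Subgroup.closure_le _).2 (by rintro _ ⟨k, rfl⟩; exact ⟨m k, ψ_m k⟩)
  have c0 : Nat.card ψ.range = 898128000 :=
    (Nat.card_congr (MonoidHom.ofInjective ψ_injective).toEquiv).symm.trans card_G1
  have i1 := inK_st 0 inK0_1 hK (by decide +kernel)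
  have i2 := inK_st 7 in1_2 (lev_le i1) (by decide +kernel)
  have i3 := inK_st 69 in2_3 (lev_le i2) (by decide +kernel)
  have i4 := inK_st 10 in3_4 (lev_le i3) (by decide +kernel)
  have s0 := st_step (K := ψ.range) (fun t ht => (inK0 t ht).imp fun _ h => ⟨hK h.1, h.2⟩) orb0 card0
  have s1 := st_step i1 orb1 card1
  have s2 := st_step i2 orb2 card2
  have s3 := st_step i3 orb3 card3
  have s4 := st_step i4 orb4 card4
  have e := Subgroup.eq_bot_of_card_le _ (show Nat.card (ψ.range ⊓ MulAction.stabilizer _ (0 : Fin 275) ⊓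
    MulAction.stabilizer _ (7 : Fin 275) ⊓ MulAction.stabilizer _ (69 : Fin 275) ⊓ MulAction.stabilizer _ (10 : Fin 275) ⊓
    MulAction.stabilizer _ (133 : Fin 275) : Subgroup (Equiv.Perm (Fin 275))) ≤ 1 by omega)
  apply ψ_injective
  rw [map_one, ← Subgroup.mem_bot, ← e]
  exact ⟨⟨⟨⟨⟨⟨g, rfl⟩, h0⟩, h1⟩, h2⟩, h3⟩, h4⟩

private theorem ab_of {p : ℕ → Bool} (n : ℕ) (h : ∀ x < n, p x = true) : allBelow p n = true := by
  induction n with
  | zero => rfl
  | succ n ih => exact Bool.and_eq_true_iff.2 ⟨h n (Nat.lt_succ_self n), ih fun x hx => h x (Nat.lt_succ_of_lt hx)⟩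

/-- the check on the base only -/
noncomputable def chkBase5 (v w : List ℕ) : Bool :=
  Nat.beq (app v 0) (app w 0) && (Nat.beq (app v 7) (app w 7) && (Nat.beq (app v 69) (app w 69) &&
    (Nat.beq (app v 10) (app w 10) && Nat.beq (app v 133) (app w 133))))

theorem chk_base5 : @chk = @chkBase5 := by
  funext v w
  rw [Bool.eq_iff_iff]
  constructor
  · intro h
    have k := allBelow_spec _ _ h
    exact Bool.and_eq_true_iff.2 ⟨k 0 (by decide), Bool.and_eq_true_iff.2 ⟨k 7 (by decide), Bool.and_eq_true_iff.2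
      ⟨k 69 (by decide), Bool.and_eq_true_iff.2 ⟨k 10 (by decide), k 133 (by decide)⟩⟩⟩⟩
  · intro h
    have k : ∀ i : Fin 275, Nat.beq (app v i) (app w i) = true → ψ ((wd w)⁻¹ * wd v) i = i := by
      intro i hi
      rw [map_mul, map_inv, Equiv.Perm.mul_apply, Equiv.Perm.inv_eq_iff_eq]
      exact Fin.ext (by rw [app_spec, app_spec]; exact Nat.eq_of_beq_eq_true hi)
    obtain ⟨h0, h⟩ := Bool.and_eq_true_iff.1 h
    obtain ⟨h1, h⟩ := Bool.and_eq_true_iff.1 h
    obtain ⟨h2, h⟩ := Bool.and_eq_true_iff.1 h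
    obtain ⟨h3, h4⟩ := Bool.and_eq_true_iff.1 h
    have e := inv_mul_eq_one.1 (eq_one_base5 (k 0 h0) (k 7 h1) (k 69 h2) (k 10 h3) (k 133 h4))
    refine ab_of _ fun p hp => Nat.beq_eq.mpr ?_
    exact (app_spec v ⟨p, hp⟩).symm.trans (e ▸ app_spec w ⟨p, hp⟩)

end base

theorem ne_of_pt {v w : List ℕ} {i : ℕ} (hi : i < 275) (h : Nat.beq (app v i) (app w i) = false) : wd v ≠ wd w := by
  intro e
  have h1 := app_spec v ⟨i, hi⟩
  rw [e, app_spec] at h1
  have h2 : app w i = app v i := h1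
  rw [h2, Nat.beq_refl] at h
  exact Bool.false_ne_true h.symm

/-- the inverse word -/
def iv (w : List ℕ) : List ℕ := w.reverse

/-- powers of words -/
def pw (w : List ℕ) (n : ℕ) : List ℕ := Nat.rec [] (fun _ ih => w ++ ih) n

theorem sq_chk : (chk [0, 0] [] && chk [1, 1] [] && chk [2, 2] [] && chk [3, 3] [] && chk [4, 4] [] && chk [5, 5] [] &&
    chk [6, 6] []) = true := by
  rewrite [chk_base5]; decide +kernel

theorem lt_sq (c : ℕ) : lt c * lt c = 1 := by
  have h := sq_chk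
  simp only [Bool.and_eq_true] at h
  obtain ⟨⟨⟨⟨⟨⟨h0, h1⟩, h2⟩, h3⟩, h4⟩, h5⟩, h6⟩ := h
  have key : ∀ k : Fin 7, m k * m k = 1 := by
    have e : ∀ c : ℕ, wd [c, c] = lt c * lt c := by intro c; simp [wd]
    have e1 : wd [] = 1 := rfl
    intro k
    fin_cases k
    · have := eq_of_chk h0; rw [e, e1] at this; exact this
    · have := eq_of_chk h1; rw [e, e1] at this; exact this
    · have := eq_of_chk h2; rw [e, e1] at this; exact this
    · have := eq_of_chk h3; rw [e, e1] at this; exact this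
    · have := eq_of_chk h4; rw [e, e1] at this; exact this
    · have := eq_of_chk h5; rw [e, e1] at this; exact this
    · have := eq_of_chk h6; rw [e, e1] at this; exact this
  exact key _

theorem wd_iv (w : List ℕ) : wd (iv w) = (wd w)⁻¹ := by
  induction w with
  | nil => simp [iv, wd]
  | cons x w ih =>
    have h1 : wd (iv (x :: w)) = wd (iv w) * wd [x] := by
      show wd ((x :: w).reverse) = _
      rw [List.reverse_cons, wd_app]
      rfl
    rw [h1, wd_cons x w, mul_inv_rev, ih]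
    congr 1
    rw [wd_cons x []]
    have h2 : (lt x)⁻¹ = lt x := inv_eq_of_mul_eq_one_left (lt_sq x)
    rw [h2]
    simp [wd]

theorem wd_pw (w : List ℕ) (n : ℕ) : wd (pw w n) = wd w ^ n := by
  induction n with
  | zero => rw [pow_zero]; rfl
  | succ n ih =>
    rw [pow_succ', ← ih, ← wd_app]
    rfl

theorem wd_nil' : wd [] = 1 := rfl

/-- the commutator of two words -/
def cm (v w : List ℕ) : List ℕ := v ++ (w ++ (iv v ++ iv w))

theorem wd_cm (v w : List ℕ) : wd (cm v w) = ⁅wd v, wd w⁆ := by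
  unfold cm
  rw [wd_app, wd_app, wd_app, wd_iv, wd_iv, commutatorElement_def]
  group

/-- the conjugate of `w` by `t` -/
def cj (t w : List ℕ) : List ℕ := t ++ (w ++ iv t)

theorem wd_cj (t w : List ℕ) : wd (cj t w) = wd t * wd w * (wd t)⁻¹ := by
  unfold cj
  rw [wd_app, wd_app, wd_iv]
  group

theorem comm_of_chk {v w : List ℕ} (h : chk (v ++ w) (w ++ v) = true) : wd v * wd w = wd w * wd v := by
  rw [← wd_app, ← wd_app]; exact eq_of_chk h

/-- element -/
def x5 : List ℕ := [0, 3, 6, 2, 0, 5, 6, 2, 5, 3, 0]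
/-- element -/
def y5 : List ℕ := [4, 5, 2, 6, 5, 6, 3, 0, 6, 3, 4, 5, 6, 2, 1, 0]
/-- element -/
def t5 : List ℕ := [5, 1]

theorem c5 : (chk (pw x5 5) [] && chk (pw y5 5) [] && chk (cm x5 y5 ++ x5) (x5 ++ cm x5 y5) &&
    chk (cm x5 y5 ++ y5) (y5 ++ cm x5 y5) && chk (cj t5 x5) (iv x5) && chk (cj t5 y5) (iv y5) &&
    !(Nat.beq (app (cm x5 y5) 0) (app [] 0))) = true := by
  rewrite [chk_base5]; decide +kernel

/-- **No 5-fold cover.** -/
theorem noCov_five : NoCov 5 G1 := by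
  have h := c5
  simp only [Bool.and_eq_true, Bool.not_eq_true'] at h
  obtain ⟨⟨⟨⟨⟨⟨h1, h2⟩, h3⟩, h4⟩, h5⟩, h6⟩, h7⟩ := h
  have e1 : wd x5 ^ 5 = 1 := by rw [← wd_pw]; exact eq_of_chk h1
  have e2 : wd y5 ^ 5 = 1 := by rw [← wd_pw]; exact eq_of_chk h2
  have e3 : ⁅wd x5, wd y5⁆ * wd x5 = wd x5 * ⁅wd x5, wd y5⁆ := by
    rw [← wd_cm, ← wd_app, ← wd_app]; exact eq_of_chk h3
  have e4 : ⁅wd x5, wd y5⁆ * wd y5 = wd y5 * ⁅wd x5, wd y5⁆ := by
    rw [← wd_cm, ← wd_app, ← wd_app]; exact eq_of_chk h4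
  have e5 : wd t5 * wd x5 * (wd t5)⁻¹ = (wd x5)⁻¹ := by
    rw [← wd_cj, ← wd_iv]; exact eq_of_chk h5
  have e6 : wd t5 * wd y5 * (wd t5)⁻¹ = (wd y5)⁻¹ := by
    rw [← wd_cj, ← wd_iv]; exact eq_of_chk h6
  have e7 : ⁅wd x5, wd y5⁆ ≠ 1 := by
    rw [← wd_cm, ← wd_nil']; exact ne_of_pt (by norm_num) h7
  refine Cfsg.Agent.H58.Crit.noCov_heis (by norm_num) (a := wd x5) (b := wd y5) (t := wd t5) rfl e7 e3 e4
    (m := 0) (i := -1) (j := -1) (k := 0) (l := 0) ?_ ?_ ?_ (by norm_num) (by norm_num)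
    (Cfsg.Agent.H51.Tools.not_dvd_index_extra (by norm_num) e1 e2 e3 e4 e7 (by rw [card_G1]; norm_num))
  · rw [e1, zpow_zero]
  · rw [e5, zpow_zero, mul_one, zpow_neg_one]
  · rw [e6, zpow_zero, mul_one, zpow_neg_one]

/-- element -/
def a0 : List ℕ := [3, 6, 5, 6, 3, 2, 0, 6, 3, 5, 6, 5, 1, 6, 0]
/-- element -/
def t3 : List ℕ := [1, 4, 3, 6, 4, 5, 6, 2, 1, 4, 5, 3, 6, 5, 3, 6]
/-- element -/
def j3 : List ℕ := [3, 1, 6, 5, 3, 6, 3, 5, 6, 3, 1]
/-- element -/
def u3 : List ℕ := [6, 3, 6, 2, 5, 0, 3, 6, 3, 6]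
/-- element -/
def z3 : List ℕ := [2, 5, 0, 3]
/-- element -/
def a1 : List ℕ := cj t3 a0
/-- element -/
def a2 : List ℕ := cj t3 a1
/-- element -/
def a3 : List ℕ := cj t3 a2
/-- element -/
def a4 : List ℕ := cj t3 a3

theorem c31 : (chk (j3 ++ j3) [] && chk (pw a0 3) [] && chk (cj j3 a0) (iv a0) && chk (pw t3 5) [] &&
    chk (t3 ++ j3) (j3 ++ t3) && chk (u3 ++ j3) (j3 ++ u3) && chk (cm a0 a1) z3 && chk (cm a0 a2) [] &&
    chk (z3 ++ a0) (a0 ++ z3) && chk (z3 ++ j3) (j3 ++ z3) && chk (z3 ++ t3) (t3 ++ z3)) = true := by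
  rewrite [chk_base5]; decide +kernel

theorem c32 : (chk (z3 ++ u3) (u3 ++ z3) && chk (pw u3 3) [] && chk (pw z3 3) [] &&
    !(Nat.beq (app z3 1) (app [] 1)) &&
    chk (cj u3 a0) (a1 ++ a1 ++ a2 ++ a2 ++ a3) &&
    chk (cj u3 a1) (a0 ++ a0 ++ a1 ++ a2) &&
    chk (cj u3 a2) (a0 ++ a0 ++ a1 ++ a1 ++ a3 ++ z3) &&
    chk (cj u3 a3) (a1 ++ a2 ++ a2 ++ z3 ++ z3) &&
    chk a4 (a0 ++ a0 ++ a1 ++ a1 ++ a2 ++ a2 ++ a3 ++ a3)) = true := by
  rewrite [chk_base5]; decide +kernel

theorem c33 : (!(Nat.beq (app (a0 ++ a1) 1) (app (a1 ++ a0) 1)) &&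
    !(Nat.beq (app (a2 ++ a3) 1) (app (a3 ++ a2) 1)) &&
    !(Nat.beq (app (a3 ++ (a0 ++ a2)) 1) (app ((a0 ++ a2) ++ a3) 1)) &&
    !(Nat.beq (app (cm u3 a0 ++ a0) 1) (app (a0 ++ cm u3 a0) 1)) &&
    chk (cm a1 a2) z3 && chk (cm a2 a3) z3 && chk (a0 ++ a3) (a3 ++ a0) && chk (a1 ++ a3) (a3 ++ a1)) = true := by
  rewrite [chk_base5]; decide +kernel


open Cfsg.Agent.H58.PChain Cfsg.Agent.H58.Cyc5 Subgroup

/-- **The 3-part of the multiplier has order at most 3.** -/
theorem bd_three : Bd 3 1 G1 := by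
  have hq1 := c31
  have hq2 := c32
  have hq3 := c33
  simp only [Bool.and_eq_true, Bool.not_eq_true'] at hq1 hq2 hq3
  obtain ⟨⟨⟨⟨⟨⟨⟨⟨⟨⟨h1, h2⟩, h3⟩, h4⟩, h5⟩, h6⟩, h7⟩, h8⟩, h9⟩, h10⟩, h11⟩ := hq1
  obtain ⟨⟨⟨⟨⟨⟨⟨⟨k1, k2⟩, k3⟩, k4⟩, k5⟩, k6⟩, k7⟩, k8⟩, k9⟩ := hq2
  obtain ⟨⟨⟨⟨⟨⟨⟨n1, n2⟩, n3⟩, n4⟩, n5⟩, n6⟩, n7⟩, n8⟩ := hq3
  have hjj : wd j3 * wd j3 = 1 := by rw [← wd_app]; exact eq_of_chk h1
  have ha3 : wd a0 ^ 3 = 1 := by rw [← wd_pw]; exact eq_of_chk h2
  have hja : wd j3 * wd a0 * (wd j3)⁻¹ = (wd a0)⁻¹ := by rw [← wd_cj, ← wd_iv]; exact eq_of_chk h3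
  have ht5 : wd t3 ^ 5 = 1 := by rw [← wd_pw]; exact eq_of_chk h4
  have htj := comm_of_chk h5
  have huj := comm_of_chk h6
  have hzz : ⁅wd a0, wd a1⁆ = wd z3 := by rw [← wd_cm]; exact eq_of_chk h7
  have hyy : ⁅wd a0, wd a2⁆ = 1 := by rw [← wd_cm]; exact eq_of_chk h8
  have hza := comm_of_chk h9
  have hzj := comm_of_chk h10
  have hzt := comm_of_chk h11
  have hzu := comm_of_chk k1
  have hu3 : wd u3 ^ 3 = 1 := by rw [← wd_pw]; exact eq_of_chk k2
  have hz3 : wd z3 ^ 3 = 1 := by rw [← wd_pw]; exact eq_of_chk k3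
  have hz1 : wd z3 ≠ 1 := by rw [← wd_nil']; exact ne_of_pt (by norm_num) k4
  -- the conjugates
  have q0 : Cyc5.cj (wd t3) (wd a0) 0 = wd a0 := cj_zero _ _
  have qs : ∀ (i : ℤ) (w : List ℕ), Cyc5.cj (wd t3) (wd a0) i = wd w →
      Cyc5.cj (wd t3) (wd a0) (1 + i) = wd (cj t3 w) := by
    intro i w h
    rw [← cj_conj, h, wd_cj, zpow_one]
  have q1 : Cyc5.cj (wd t3) (wd a0) 1 = wd a1 := qs 0 _ q0
  have q2 : Cyc5.cj (wd t3) (wd a0) 2 = wd a2 := qs 1 _ q1
  have q3 : Cyc5.cj (wd t3) (wd a0) 3 = wd a3 := qs 2 _ q2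
  have q4 : Cyc5.cj (wd t3) (wd a0) 4 = wd a4 := qs 3 _ q3
  have q5 : ∀ i k : ℤ, Cyc5.cj (wd t3) (wd a0) (i + 5 * k) = Cyc5.cj (wd t3) (wd a0) i := by
    intro i k
    have e1 : (wd t3) ^ (5 * k) = 1 := by
      rw [zpow_mul, show (wd t3) ^ (5 : ℤ) = wd t3 ^ 5 from rfl, ht5, one_zpow]
    rw [Cyc5.cj, zpow_add, e1, mul_one]
    rfl
  have qm : ∀ i : ℤ, Cyc5.cj (wd t3) (wd a0) i = wd a0 ∨ Cyc5.cj (wd t3) (wd a0) i = wd a1 ∨
      Cyc5.cj (wd t3) (wd a0) i = wd a2 ∨ Cyc5.cj (wd t3) (wd a0) i = wd a3 ∨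
      Cyc5.cj (wd t3) (wd a0) i = wd a4 := by
    intro i
    have e1 : Cyc5.cj (wd t3) (wd a0) i = Cyc5.cj (wd t3) (wd a0) (i % 5) := by
      conv_lhs => rw [← Int.emod_add_mul_ediv i 5]
      exact q5 _ _
    rw [e1]
    have h2 : i % 5 = 0 ∨ i % 5 = 1 ∨ i % 5 = 2 ∨ i % 5 = 3 ∨ i % 5 = 4 := by omega
    rcases h2 with h2 | h2 | h2 | h2 | h2 <;> rw [h2]
    · exact Or.inl q0
    · exact Or.inr (Or.inl q1)
    · exact Or.inr (Or.inr (Or.inl q2))
    · exact Or.inr (Or.inr (Or.inr (Or.inl q3)))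
    · exact Or.inr (Or.inr (Or.inr (Or.inr q4)))
  have z1 : wd z3 * wd a1 = wd a1 * wd z3 := by
    have e : wd a1 = wd t3 * wd a0 * (wd t3)⁻¹ := wd_cj _ _
    rw [e]
    exact ((show Commute (wd z3) (wd t3) from hzt).mul_right hza).mul_right
      (show Commute (wd z3) (wd t3) from hzt).inv_right
  have z2 : wd z3 * wd a2 = wd a2 * wd z3 := by
    have e : wd a2 = wd t3 * wd a1 * (wd t3)⁻¹ := wd_cj _ _
    rw [e]
    exact ((show Commute (wd z3) (wd t3) from hzt).mul_right z1).mul_right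
      (show Commute (wd z3) (wd t3) from hzt).inv_right
  have z3' : wd z3 * wd a3 = wd a3 * wd z3 := by
    have e : wd a3 = wd t3 * wd a2 * (wd t3)⁻¹ := wd_cj _ _
    rw [e]
    exact ((show Commute (wd z3) (wd t3) from hzt).mul_right z2).mul_right
      (show Commute (wd z3) (wd t3) from hzt).inv_right
  have p1 : wd a1 ^ 3 = 1 := by
    have e : wd a1 = wd t3 * wd a0 * (wd t3)⁻¹ := wd_cj _ _
    rw [e, conj_pow, ha3, mul_one, mul_inv_cancel]
  have p2 : wd a2 ^ 3 = 1 := by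
    have e : wd a2 = wd t3 * wd a1 * (wd t3)⁻¹ := wd_cj _ _
    rw [e, conj_pow, p1, mul_one, mul_inv_cancel]
  have p3 : wd a3 ^ 3 = 1 := by
    have e : wd a3 = wd t3 * wd a2 * (wd t3)⁻¹ := wd_cj _ _
    rw [e, conj_pow, p2, mul_one, mul_inv_cancel]
  have c02 : wd a0 * wd a2 = wd a2 * wd a0 := commutatorElement_eq_one_iff_mul_comm.1 hyy
  have c12 : ⁅wd a1, wd a2⁆ = wd z3 := by rw [← wd_cm]; exact eq_of_chk n5
  have c23 : ⁅wd a2, wd a3⁆ = wd z3 := by rw [← wd_cm]; exact eq_of_chk n6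
  have c03 : wd a0 * wd a3 = wd a3 * wd a0 := comm_of_chk n7
  have c13 : wd a1 * wd a3 = wd a3 * wd a1 := comm_of_chk n8
  have m01 : wd a0 * wd a1 ≠ wd a1 * wd a0 := by rw [← wd_app, ← wd_app]; exact ne_of_pt (by norm_num) n1
  have m23 : wd a2 * wd a3 ≠ wd a3 * wd a2 := by rw [← wd_app, ← wd_app]; exact ne_of_pt (by norm_num) n2
  have m3v : wd a3 * (wd a0 * wd a2) ≠ (wd a0 * wd a2) * wd a3 := by
    rw [← wd_app a0 a2, ← wd_app, ← wd_app]; exact ne_of_pt (by norm_num) n3
  have muc : ⁅wd u3, wd a0⁆ * wd a0 ≠ wd a0 * ⁅wd u3, wd a0⁆ := by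
    rw [← wd_cm, ← wd_app, ← wd_app]; exact ne_of_pt (by norm_num) n4
  -- the conjugates by `u`
  have u0 : wd u3 * wd a0 * (wd u3)⁻¹ = wd a1 * wd a1 * wd a2 * wd a2 * wd a3 := by
    rw [← wd_cj, eq_of_chk k5]; simp only [wd_app, mul_assoc]
  have u1 : wd u3 * wd a1 * (wd u3)⁻¹ = wd a0 * wd a0 * wd a1 * wd a2 := by
    rw [← wd_cj, eq_of_chk k6]; simp only [wd_app, mul_assoc]
  have u2 : wd u3 * wd a2 * (wd u3)⁻¹ = wd a0 * wd a0 * wd a1 * wd a1 * wd a3 * wd z3 := by
    rw [← wd_cj, eq_of_chk k7]; simp only [wd_app, mul_assoc]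
  have u3' : wd u3 * wd a3 * (wd u3)⁻¹ = wd a1 * wd a2 * wd a2 * wd z3 * wd z3 := by
    rw [← wd_cj, eq_of_chk k8]; simp only [wd_app, mul_assoc]
  have ua4 : wd a4 = wd a0 * wd a0 * wd a1 * wd a1 * wd a2 * wd a2 * wd a3 * wd a3 := by
    rw [eq_of_chk k9]; simp only [wd_app, mul_assoc]
  -- membership in a subgroup containing `a_0, ..., a_3, z`
  have hgen : ∀ K : Subgroup G1, wd a0 ∈ K → wd a1 ∈ K → wd a2 ∈ K → wd a3 ∈ K → wd z3 ∈ K →
      (wd u3 * wd a0 * (wd u3)⁻¹ ∈ K ∧ wd u3 * wd a1 * (wd u3)⁻¹ ∈ K ∧ wd u3 * wd a2 * (wd u3)⁻¹ ∈ K ∧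
        wd u3 * wd a3 * (wd u3)⁻¹ ∈ K ∧ wd u3 * wd z3 * (wd u3)⁻¹ ∈ K) := by
    intro K g0 g1 g2 g3 g4
    refine ⟨?_, ?_, ?_, ?_, ?_⟩
    · rw [u0]; (apply mul_mem; apply mul_mem; apply mul_mem; apply mul_mem; assumption; assumption; assumption; assumption; assumption)
    · rw [u1]; (apply mul_mem; apply mul_mem; apply mul_mem; assumption; assumption; assumption; assumption)
    · rw [u2]; (apply mul_mem; apply mul_mem; apply mul_mem; apply mul_mem; apply mul_mem; assumption; assumption; assumption; assumption; assumption; assumption)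
    · rw [u3']; (apply mul_mem; apply mul_mem; apply mul_mem; apply mul_mem; assumption; assumption; assumption; assumption; assumption)
    · rw [← hzu, mul_inv_cancel_right]; exact g4
  -- orders
  have s0 := base (p := 3) (by norm_num) hz3 hz1
  have s1 := step_comm (b := wd a0) (c := wd a1) (by norm_num) s0
    (by rintro x rfl; exact conj_mem_of_comm rfl hza.symm) ha3 (by rintro x rfl; exact z1) m01
  have s2 := step_comm (b := wd a2) (c := wd a3) (by norm_num) s1
    (by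
      rintro x (rfl | rfl)
      · exact conj_mem_of_comm (by simp) c02.symm
      · exact conj_mem_of_comm (by simp) z2.symm) p2
    (by
      rintro x (rfl | rfl)
      · exact c03
      · exact z3') m23
  have s3 := step_comm (b := wd a1) (c := wd a0) (by norm_num) s2
    (by
      rintro x (rfl | rfl | rfl)
      · exact conj_mem_of_comm' (by simp) (subset_closure (by simp)) c12
      · refine conj_mem_of_comm' (c := (wd z3)⁻¹) (by simp) (inv_mem (subset_closure (by simp))) ?_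
        rw [← hzz, commutatorElement_inv]
      · exact conj_mem_of_comm (by simp) z1.symm) p1
    (by
      rintro x (rfl | rfl | rfl)
      · exact c02.symm
      · rfl
      · exact hza) m01.symm
  have s4 := step_comm (b := wd a3) (c := wd a0 * wd a2) (by norm_num) s3
    (by
      rintro x (rfl | rfl | rfl | rfl)
      · exact conj_mem_of_comm (by simp) c13.symm
      · refine conj_mem_of_comm' (c := (wd z3)⁻¹) (by simp) (inv_mem (subset_closure (by simp))) ?_
        rw [← c23, commutatorElement_inv]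
      · exact conj_mem_of_comm (by simp) c03.symm
      · exact conj_mem_of_comm (by simp) z3'.symm) p3
    (by
      have e10 : wd a1 * (wd a0 * wd a2) = (wd a0 * wd a2) * wd a1 := by
        have f1 : wd a0 * wd a1 = wd z3 * (wd a1 * wd a0) := by rw [← hzz, commutatorElement_def]; group
        have f2 : wd a1 * wd a2 = wd z3 * (wd a2 * wd a1) := by rw [← c12, commutatorElement_def]; group
        have f3 : (wd a0 * wd a2) * wd a1 = wd a0 * ((wd z3)⁻¹ * (wd a1 * wd a2)) := by rw [f2]; group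
        have f4 : wd a0 * (wd z3)⁻¹ = (wd z3)⁻¹ * wd a0 := ((show Commute (wd z3) (wd a0) from hza).inv_left).symm
        calc wd a1 * (wd a0 * wd a2) = (wd z3)⁻¹ * (wd z3 * (wd a1 * wd a0)) * wd a2 := by group
          _ = (wd z3)⁻¹ * (wd a0 * wd a1) * wd a2 := by rw [f1]
          _ = ((wd z3)⁻¹ * wd a0) * (wd a1 * wd a2) := by group
          _ = (wd a0 * (wd z3)⁻¹) * (wd a1 * wd a2) := by rw [f4]
          _ = wd a0 * ((wd z3)⁻¹ * (wd a1 * wd a2)) := by group
          _ = (wd a0 * wd a2) * wd a1 := f3.symm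
      rintro x (rfl | rfl | rfl | rfl)
      · exact e10
      · rw [← mul_assoc, ← c02]
      · rw [mul_assoc, ← c02]
      · rw [← mul_assoc, hza, mul_assoc, z2, mul_assoc]) m3v
  have hcomm4 : ∀ x ∈ closure ({wd a3, wd a1, wd a2, wd a0, wd z3} : Set G1),
      ∀ y ∈ closure ({wd a3, wd a1, wd a2, wd a0, wd z3} : Set G1), ⁅x, y⁆ ∈ zpowers (wd z3) := by
    have hle : ⁅closure ({wd a3, wd a1, wd a2, wd a0, wd z3} : Set G1),
        closure ({wd a3, wd a1, wd a2, wd a0, wd z3} : Set G1)⁆ ≤ zpowers (wd z3) := by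
      apply Cfsg.Agent.H48.Crit.commutator_le_of_gen
      · have hz : ∀ x : G1, wd z3 * x = x * wd z3 → ∀ c ∈ zpowers (wd z3), x * c * x⁻¹ ∈ zpowers (wd z3) := by
          intro x hx c hc
          obtain ⟨n, rfl⟩ := mem_zpowers_iff.1 hc
          have h1 : Commute (wd z3 ^ n) x := Commute.zpow_left hx n
          rw [← h1.eq, mul_inv_cancel_right]
          exact hc
        rintro x (rfl | rfl | rfl | rfl | rfl)
        · exact hz _ z3'
        · exact hz _ z1
        · exact hz _ z2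
        · exact hz _ hza
        · exact hz _ rfl
      · have mz : wd z3 ∈ zpowers (wd z3) := mem_zpowers _
        have mc : ∀ x y : G1, x * y = y * x → ⁅x, y⁆ ∈ zpowers (wd z3) := by
          intro x y h
          rw [commutatorElement_eq_one_iff_mul_comm.2 h]; exact one_mem _
        have mi : ∀ x y : G1, ⁅x, y⁆ = wd z3 → ⁅y, x⁆ ∈ zpowers (wd z3) := by
          intro x y h
          rw [← commutatorElement_inv, h]; exact inv_mem mz
        have md : ∀ x y : G1, ⁅x, y⁆ = wd z3 → ⁅x, y⁆ ∈ zpowers (wd z3) := by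
          intro x y h
          rw [h]; exact mz
        rintro x (rfl | rfl | rfl | rfl | rfl) y (rfl | rfl | rfl | rfl | rfl)
        · exact mc _ _ rfl
        · exact mc _ _ c13.symm
        · exact mi _ _ c23
        · exact mc _ _ c03.symm
        · exact mc _ _ z3'.symm
        · exact mc _ _ c13
        · exact mc _ _ rfl
        · exact md _ _ c12
        · exact mi _ _ hzz
        · exact mc _ _ z1.symm
        · exact md _ _ c23
        · exact mi _ _ c12
        · exact mc _ _ rfl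
        · exact mc _ _ c02.symm
        · exact mc _ _ z2.symm
        · exact mc _ _ c03
        · exact md _ _ hzz
        · exact mc _ _ c02
        · exact mc _ _ rfl
        · exact mc _ _ hza.symm
        · exact mc _ _ z3'
        · exact mc _ _ z1
        · exact mc _ _ z2
        · exact mc _ _ hza
        · exact mc _ _ rfl
    intro x hx y hy
    exact hle (commutator_mem_commutator hx hy)
  have s5 := step (b := wd u3) (by norm_num) s4
    (by
      obtain ⟨w0, w1, w2, w3, w4⟩ := hgen (closure ({wd a3, wd a1, wd a2, wd a0, wd z3} : Set G1))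
        (subset_closure (by simp)) (subset_closure (by simp)) (subset_closure (by simp)) (subset_closure (by simp))
        (subset_closure (by simp))
      rintro x (rfl | rfl | rfl | rfl | rfl)
      · exact w3
      · exact w1
      · exact w2
      · exact w0
      · exact w4) hu3
    (by
      intro hm
      apply muc
      have h1 := hcomm4 _ hm _ (subset_closure (show wd a0 ∈ _ by simp))
      obtain ⟨n, hn⟩ := mem_zpowers_iff.1 h1
      rw [← hn]
      exact (Commute.zpow_left (show Commute (wd z3) (wd a0) from hza) n))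
  -- the index
  have mr : ∀ i, Cyc5.cj (wd t3) (wd a0) i ∈ closure (Set.range (Cyc5.cj (wd t3) (wd a0))) :=
    fun i => subset_closure ⟨i, rfl⟩
  have r0 : wd a0 ∈ closure (Set.range (Cyc5.cj (wd t3) (wd a0))) := q0 ▸ mr 0
  have r1 : wd a1 ∈ closure (Set.range (Cyc5.cj (wd t3) (wd a0))) := q1 ▸ mr 1
  have r2 : wd a2 ∈ closure (Set.range (Cyc5.cj (wd t3) (wd a0))) := q2 ▸ mr 2
  have r3 : wd a3 ∈ closure (Set.range (Cyc5.cj (wd t3) (wd a0))) := q3 ▸ mr 3
  have rz : wd z3 ∈ closure (Set.range (Cyc5.cj (wd t3) (wd a0))) := by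
    rw [← hzz, commutatorElement_def]
    exact mul_mem (mul_mem (mul_mem r0 r1) (inv_mem r0)) (inv_mem r1)
  have hle : closure ({wd u3, wd a3, wd a1, wd a2, wd a0, wd z3} : Set G1) ≤
      closure (insert (wd u3) (Set.range (Cyc5.cj (wd t3) (wd a0)))) := by
    have hmono : closure (Set.range (Cyc5.cj (wd t3) (wd a0))) ≤
        closure (insert (wd u3) (Set.range (Cyc5.cj (wd t3) (wd a0)))) := closure_mono (Set.subset_insert _ _)
    rw [closure_le]
    rintro x (rfl | rfl | rfl | rfl | rfl | rfl)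
    · exact subset_closure (Set.mem_insert _ _)
    · exact hmono r3
    · exact hmono r1
    · exact hmono r2
    · exact hmono r0
    · exact hmono rz
  have hidx : ¬ 3 ∣ (closure (insert (wd u3) (Set.range (Cyc5.cj (wd t3) (wd a0))))).index := by
    refine Cfsg.Agent.H51.Tools.not_dvd_index_of (k := 6) (by norm_num) (s5.2.trans (Subgroup.card_dvd_of_le hle)) ?_
    rw [card_G1]; norm_num
  obtain ⟨w0, w1, w2, w3, w4⟩ := hgen _ r0 r1 r2 r3 rz
  refine bd_cyc5 (by norm_num) (by norm_num) (by norm_num) hjj ha3 hja ht5 htj huj (by rw [q1]; exact hzz) hz1 (n := 0)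
    (by rw [q2, hyy, zpow_zero]) hza hzj hzt ?_ hidx
  intro i
  rcases qm i with h | h | h | h | h <;> rw [h]
  · exact w0
  · exact w1
  · exact w2
  · exact w3
  · rw [ua4]
    have hmul : ∀ x y : G1, wd u3 * x * (wd u3)⁻¹ ∈ closure (Set.range (Cyc5.cj (wd t3) (wd a0))) →
        wd u3 * y * (wd u3)⁻¹ ∈ closure (Set.range (Cyc5.cj (wd t3) (wd a0))) →
        wd u3 * (x * y) * (wd u3)⁻¹ ∈ closure (Set.range (Cyc5.cj (wd t3) (wd a0))) := by
      intro x y hx hy
      have e : wd u3 * (x * y) * (wd u3)⁻¹ = (wd u3 * x * (wd u3)⁻¹) * (wd u3 * y * (wd u3)⁻¹) := by group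
      rw [e]; exact mul_mem hx hy
    (apply hmul; apply hmul; apply hmul; apply hmul; apply hmul; apply hmul; apply hmul; assumption; assumption; assumption; assumption; assumption; assumption; assumption; assumption)

end Cfsg.Agent.H58.McLOdd
end

private theorem dce_6198e2802b24 : _root_.True := by
  try have : _root_.True := by simp only [_root_.Cfsg.Agent.H58.Cyc5.cj.eq_1]
  try have : _root_.True := by simp only [_root_.Cfsg.Agent.H58.McLOdd.wd.eq_1]
  try have : _root_.True := by simp only [_root_.Cfsg.Agent.H58.McLOdd.iv.eq_1]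
  try have : _root_.True := by simp only [_root_.Cfsg.Agent.H58.McLOdd.lt.eq_1]
  exact _root_.True.intro
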