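import Cfsg.Agent.H58.Crit
import Cfsg.Agent.H51.Tools
import Cfsg.Agent.FixBN.HeStab
set_option linter.all false

/-!
# The odd part of the Schur multiplier of the Held group is trivial (helper58)

Explicit Sylow subgroups `3 ^ (1 + 2)`, `5 ^ 2`, `7 ^ (1 + 2)` and elements normalising them, as words in the generators;
all the relations are checked on the four base points of the representation of degree 2058.
-/

set_option autoImplicit false
set_option maxRecDepth 100000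

namespace Cfsg.Agent.H58.HeOdd

open Cfsg.Spor Cfsg.Spor.He Cfsg.Agent.SporadicB.HePerm Cfsg.Agent.FixBN.HeStab
open Cfsg.Agent.H51.Mult
open scoped commutatorElement

/-- the inverse word -/
def iv (w : List Gen) : List Gen := w.reverse

/-- powers of words -/
def pw (w : List Gen) (n : ℕ) : List Gen := Nat.rec [] (fun _ ih => w ++ ih) n

theorem wd_app (v w : List Gen) : wd (v ++ w) = wd v * wd w := by simp [wd]

theorem of_sq (x : Gen) : (PresentedGroup.of x : Cfsg.Spor.He) * PresentedGroup.of x = 1 := by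
  have h : wd [x, x] = wd [] := by
    apply eq_of_chkB
    cases x <;> decide +kernel
  simpa [wd] using h

theorem wd_iv (w : List Gen) : wd (iv w) = (wd w)⁻¹ := by
  induction w with
  | nil => simp [iv, wd]
  | cons x w ih =>
    have h1 : wd (iv (x :: w)) = wd (iv w) * wd [x] := by
      show wd ((x :: w).reverse) = _
      rw [List.reverse_cons, wd_app]
      rfl
    have h2 : wd (x :: w) = wd [x] * wd w := wd_app [x] w
    rw [h1, h2, mul_inv_rev, ih]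
    congr 1
    have h3 := of_sq x
    rw [eq_comm, inv_eq_iff_mul_eq_one]
    simpa [wd] using h3

theorem wd_pw (w : List Gen) (n : ℕ) : wd (pw w n) = wd w ^ n := by
  induction n with
  | zero => rw [pow_zero]; rfl
  | succ n ih =>
    rw [pow_succ', ← ih, ← wd_app]
    rfl

theorem wd_nil' : wd [] = 1 := rfl

/-- the commutator of two words -/
def cm (v w : List Gen) : List Gen := v ++ (w ++ (iv v ++ iv w))

theorem wd_cm (v w : List Gen) : wd (cm v w) = ⁅wd v, wd w⁆ := by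
  unfold cm
  rw [wd_app, wd_app, wd_app, wd_iv, wd_iv, commutatorElement_def]
  group

/-- the conjugate of `w` by `t` -/
def cj (t w : List Gen) : List Gen := t ++ (w ++ iv t)

theorem wd_cj (t w : List Gen) : wd (cj t w) = wd t * wd w * (wd t)⁻¹ := by
  unfold cj
  rw [wd_app, wd_app, wd_iv]
  group

/-- element -/
def x7 : List Gen := [.d, .f, .b, .c, .d, .e, .c, .d, .g, .e, .d, .c, .d, .a, .b]
/-- element -/
def y7 : List Gen := [.f, .g, .d, .c, .b, .d, .f, .g, .d, .c, .d, .b, .c, .d, .g, .d, .f, .c, .d, .e, .c]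
/-- element -/
def t7 : List Gen := [.e, .b, .c, .d, .c, .d, .f, .d, .b]

theorem c7 : (chkB (pw x7 7) [] && chkB (pw y7 7) [] && chkB (cm x7 y7 ++ x7) (x7 ++ cm x7 y7) &&
    chkB (cm x7 y7 ++ y7) (y7 ++ cm x7 y7) && chkB (cj t7 x7) (pw x7 2) && chkB (cj t7 y7) (pw y7 4) &&
    !(chkB (cm x7 y7) [])) = true := by
  decide +kernel

/-- element -/
def x3 : List Gen := [.b, .e, .d, .g, .d, .f, .d, .c, .d, .e, .c, .d, .g, .f, .b, .c, .d, .c, .d, .g, .e]
/-- element -/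
def y3 : List Gen := [.c, .d, .f, .d, .g, .c, .d, .e, .b, .c, .d, .c, .d, .g, .e, .b]
/-- element -/
def t3 : List Gen := [.b, .a, .b, .a]

theorem c3 : (chkB (pw x3 3) [] && chkB (pw y3 3) [] && chkB (cm x3 y3 ++ x3) (x3 ++ cm x3 y3) &&
    chkB (cm x3 y3 ++ y3) (y3 ++ cm x3 y3) && chkB (cj t3 x3) (iv x3) && chkB (cj t3 y3) (iv y3) &&
    !(chkB (cm x3 y3) [])) = true := by
  decide +kernel

/-- element -/
def x5 : List Gen := [.b, .d, .f, .g, .c, .d, .f, .a, .b, .c, .d, .b, .c, .d, .f, .c]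
/-- element -/
def y5 : List Gen := [.c, .b, .g, .d, .c, .d, .e, .c, .d, .b, .c, .d, .f, .e, .c, .d, .c, .d, .b, .c, .a]
/-- element -/
def t5 : List Gen := [.c, .b, .a, .g, .f, .d, .c, .d, .b, .c, .d, .f, .b, .c, .d, .g, .a, .b, .c, .d, .f, .e]

theorem c5 : (chkB (pw x5 5) [] && chkB (pw y5 5) [] && chkB (x5 ++ y5) (y5 ++ x5) &&
    chkB (cj t5 x5) (pw x5 2) && chkB (cj t5 y5) (pw y5 2) &&
    !(chkB x5 []) && !(chkB y5 []) && !(chkB y5 x5) && !(chkB y5 (pw x5 2)) &&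
    !(chkB y5 (pw x5 3)) && !(chkB y5 (pw x5 4))) = true := by
  decide +kernel

/-- different values from a failing check -/
theorem ne_of_chkB {v w : List Gen} (h : chkB v w = false) : wd v ≠ wd w := by
  intro e
  have key : ∀ i : Fin 2058, act v i = act w i := fun i => by
    rw [← phi_wd_apply, ← phi_wd_apply, e]
  have h0 : act v 0 = act w 0 := key 0
  have h1 : act v 1 = act w 1 := key 1
  have h2 : act v 32 = act w 32 := key 32
  have h3 : act v 8 = act w 8 := key 8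
  have : chkB v w = true := by
    unfold chkB
    rw [h0, h1, h2, h3]
    simp
  rw [this] at h
  exact Bool.false_ne_true h.symm

/-- the factorisation of the order -/
theorem card_fact : 4030387200 = 2 ^ 10 * 3 ^ 3 * 5 ^ 2 * 7 ^ 3 * 17 := by norm_num

/-- **No 7-fold cover.** -/
theorem noCov_seven : NoCov 7 Cfsg.Spor.He := by
  have h := c7
  simp only [Bool.and_eq_true, Bool.not_eq_true'] at h
  obtain ⟨⟨⟨⟨⟨⟨h1, h2⟩, h3⟩, h4⟩, h5⟩, h6⟩, h7⟩ := h
  have e1 : wd x7 ^ 7 = 1 := by rw [← wd_pw]; exact eq_of_chkB h1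
  have e2 : wd y7 ^ 7 = 1 := by rw [← wd_pw]; exact eq_of_chkB h2
  have e3 : ⁅wd x7, wd y7⁆ * wd x7 = wd x7 * ⁅wd x7, wd y7⁆ := by
    rw [← wd_cm, ← wd_app, ← wd_app]; exact eq_of_chkB h3
  have e4 : ⁅wd x7, wd y7⁆ * wd y7 = wd y7 * ⁅wd x7, wd y7⁆ := by
    rw [← wd_cm, ← wd_app, ← wd_app]; exact eq_of_chkB h4
  have e5 : wd t7 * wd x7 * (wd t7)⁻¹ = wd x7 ^ 2 := by
    rw [← wd_cj, ← wd_pw]; exact eq_of_chkB h5
  have e6 : wd t7 * wd y7 * (wd t7)⁻¹ = wd y7 ^ 4 := by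
    rw [← wd_cj, ← wd_pw]; exact eq_of_chkB h6
  have e7 : ⁅wd x7, wd y7⁆ ≠ 1 := by
    rw [← wd_cm, ← wd_nil']; exact ne_of_chkB h7
  refine Cfsg.Agent.H58.Crit.noCov_heis (by norm_num) (a := wd x7) (b := wd y7) (t := wd t7) rfl e7 e3 e4
    (m := 0) (i := 2) (j := 4) (k := 0) (l := 0) ?_ ?_ ?_ (by norm_num) (by norm_num)
    (Cfsg.Agent.H51.Tools.not_dvd_index_extra (by norm_num) e1 e2 e3 e4 e7 (by rw [card_he]; norm_num))
  · rw [e1, zpow_zero]
  · rw [e5, zpow_zero, mul_one]; rfl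
  · rw [e6, zpow_zero, mul_one]; rfl

/-- **No 3-fold cover.** -/
theorem noCov_three : NoCov 3 Cfsg.Spor.He := by
  have h := c3
  simp only [Bool.and_eq_true, Bool.not_eq_true'] at h
  obtain ⟨⟨⟨⟨⟨⟨h1, h2⟩, h3⟩, h4⟩, h5⟩, h6⟩, h7⟩ := h
  have e1 : wd x3 ^ 3 = 1 := by rw [← wd_pw]; exact eq_of_chkB h1
  have e2 : wd y3 ^ 3 = 1 := by rw [← wd_pw]; exact eq_of_chkB h2
  have e3 : ⁅wd x3, wd y3⁆ * wd x3 = wd x3 * ⁅wd x3, wd y3⁆ := by
    rw [← wd_cm, ← wd_app, ← wd_app]; exact eq_of_chkB h3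
  have e4 : ⁅wd x3, wd y3⁆ * wd y3 = wd y3 * ⁅wd x3, wd y3⁆ := by
    rw [← wd_cm, ← wd_app, ← wd_app]; exact eq_of_chkB h4
  have e5 : wd t3 * wd x3 * (wd t3)⁻¹ = (wd x3)⁻¹ := by
    rw [← wd_cj, ← wd_iv]; exact eq_of_chkB h5
  have e6 : wd t3 * wd y3 * (wd t3)⁻¹ = (wd y3)⁻¹ := by
    rw [← wd_cj, ← wd_iv]; exact eq_of_chkB h6
  have e7 : ⁅wd x3, wd y3⁆ ≠ 1 := by
    rw [← wd_cm, ← wd_nil']; exact ne_of_chkB h7
  refine Cfsg.Agent.H58.Crit.noCov_heis (by norm_num) (a := wd x3) (b := wd y3) (t := wd t3) rfl e7 e3 e4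
    (m := 0) (i := -1) (j := -1) (k := 0) (l := 0) ?_ ?_ ?_ (by norm_num) (by norm_num)
    (Cfsg.Agent.H51.Tools.not_dvd_index_extra (by norm_num) e1 e2 e3 e4 e7 (by rw [card_he]; norm_num))
  · rw [e1, zpow_zero]
  · rw [e5, zpow_zero, mul_one, zpow_neg_one]
  · rw [e6, zpow_zero, mul_one, zpow_neg_one]

/-- **No 5-fold cover.** -/
theorem noCov_five : NoCov 5 Cfsg.Spor.He := by
  have h := c5
  simp only [Bool.and_eq_true, Bool.not_eq_true'] at h
  obtain ⟨⟨⟨⟨⟨⟨⟨⟨⟨⟨h1, h2⟩, h3⟩, h4⟩, h5⟩, n1⟩, n2⟩, n3⟩, n4⟩, n5⟩, n6⟩ := h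
  have e1 : wd x5 ^ 5 = 1 := by rw [← wd_pw]; exact eq_of_chkB h1
  have e2 : wd y5 ^ 5 = 1 := by rw [← wd_pw]; exact eq_of_chkB h2
  have e3 : wd x5 * wd y5 = wd y5 * wd x5 := by
    rw [← wd_app, ← wd_app]; exact eq_of_chkB h3
  have e4 : wd t5 * wd x5 * (wd t5)⁻¹ = wd x5 ^ 2 := by
    rw [← wd_cj, ← wd_pw]; exact eq_of_chkB h4
  have e5 : wd t5 * wd y5 * (wd t5)⁻¹ = wd y5 ^ 2 := by
    rw [← wd_cj, ← wd_pw]; exact eq_of_chkB h5
  have m1 : wd x5 ≠ 1 := by rw [← wd_nil']; exact ne_of_chkB n1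
  have m2 : wd y5 ≠ 1 := by rw [← wd_nil']; exact ne_of_chkB n2
  have m3 : wd y5 ≠ wd x5 := ne_of_chkB n3
  have m4 : wd y5 ≠ wd x5 ^ 2 := by rw [← wd_pw]; exact ne_of_chkB n4
  have m5 : wd y5 ≠ wd x5 ^ 3 := by rw [← wd_pw]; exact ne_of_chkB n5
  have m6 : wd y5 ≠ wd x5 ^ 4 := by rw [← wd_pw]; exact ne_of_chkB n6
  have hyx : wd y5 ∉ Subgroup.zpowers (wd x5) := by
    intro hm
    obtain ⟨n, hn⟩ := Subgroup.mem_zpowers_iff.1 hm
    have h6 : wd x5 ^ (n % 5) = wd y5 := by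
      rw [← hn]
      conv_rhs => rw [← Int.emod_add_mul_ediv n 5, zpow_add, zpow_mul]
      rw [show (wd x5 : Cfsg.Spor.He) ^ (5 : ℤ) = wd x5 ^ 5 from rfl, e1, one_zpow, mul_one]
    have h7 : 0 ≤ n % 5 := Int.emod_nonneg _ (by norm_num)
    have h8 : n % 5 < 5 := Int.emod_lt_of_pos _ (by norm_num)
    have h9 : n % 5 = 0 ∨ n % 5 = 1 ∨ n % 5 = 2 ∨ n % 5 = 3 ∨ n % 5 = 4 := by omega
    rcases h9 with h9 | h9 | h9 | h9 | h9 <;> rw [h9] at h6
    · rw [zpow_zero] at h6; exact m2 h6.symm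
    · rw [zpow_one] at h6; exact m3 h6.symm
    · exact m4 h6.symm
    · exact m5 h6.symm
    · exact m6 h6.symm
  refine Cfsg.Agent.H48.Crit.noCov_sq (by norm_num) (a := wd x5) (b := wd y5) (t := wd t5) e3 e1
    (i := 2) (j := 0) (k := 0) (l := 2) ?_ ?_ (by norm_num)
    (Cfsg.Agent.H51.Tools.not_dvd_index_sq (by norm_num) e1 e2 e3 m1 hyx (by rw [card_he]; norm_num))
  · rw [e4, pow_zero, mul_one]
  · rw [e5, pow_zero, one_mul]

end Cfsg.Agent.H58.HeOdd
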