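import Mathlib
import Cfsg.Agent.H51.Tools
import Cfsg.Agent.SmallSimple.Carmichael
import Cfsg.Agent.CpQuot.Pairs
set_option linter.all false

/-!
# Central 3-extensions of the alternating group of degree six inside a central extension

* `card_dvd_three`: `H` perfect, `K` a central 3-subgroup, `H / K` generated by four elements satisfying Carmichael's
  relations, with elements of order 4 and 5 and a noncyclic 3-subgroup `⟨s, t⟩`: then `|K|` divides 3.
* `cube_eq_one`: `x, y, w` involutions of a central extension `L → X` with kernel a 3-group, `(x y)^3 = (x w)^3 = 1`,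
  `x y w` of order dividing 15 modulo the kernel, and `⟨x, y, w⟩` maps to a group which is `A₆` modulo a central
  subgroup `⟨z⟩` of order dividing three: all elements of `⟨x, y, w⟩` over `⟨z⟩` have cube one.
-/

set_option autoImplicit false
set_option linter.style.haveILetI false
set_option linter.unusedVariables false

namespace Cfsg.Agent.H58.ASix

open Subgroup
open scoped commutatorElement
open Cfsg.Agent.CpQuot

universe u v

/-- an element all of whose commutators are central is central, in a perfect group -/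
theorem central_of_perfect {H : Type*} [Group H] (hH : commutator H = ⊤) {k : H} (hk : ∀ h, ⁅k, h⁆ ∈ center H) :
    k ∈ center H := by
  let f : H →* center H := MonoidHom.mk' (fun h => ⟨⁅k, h⁆, hk h⟩) (by
    intro a b
    apply Subtype.ext
    show ⁅k, a * b⁆ = ⁅k, a⁆ * ⁅k, b⁆
    have e : ⁅k, a * b⁆ = ⁅k, a⁆ * (a * ⁅k, b⁆ * a⁻¹) := by simp only [commutatorElement_def]; group
    rw [e, mem_center_iff.1 (hk b) a, mul_inv_cancel_right])
  have h1 : commutator H ≤ f.ker := by
    rw [_root_.commutator_def, commutator_le]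
    intro a _ b _
    rw [MonoidHom.mem_ker, map_commutatorElement, commutatorElement_eq_one_iff_mul_comm]
    exact Subtype.ext (mem_center_iff.1 (f b).2 (f a))
  rw [mem_center_iff]
  intro g
  have h2 : g ∈ f.ker := h1 (by rw [hH]; exact mem_top g)
  have h3 : ⁅k, g⁆ = 1 := congrArg Subtype.val (MonoidHom.mem_ker.1 h2)
  exact (commutatorElement_eq_one_iff_mul_comm.1 h3).symm

theorem card_dvd_three {H : Type*} [Group H] [Finite H] (hH : commutator H = ⊤) {K : Subgroup H}
    (hKc : K ≤ center H) (hK : IsPGroup 3 K) (x : Fin 4 → H) (h3 : ∀ i, x i ^ 3 ∈ K)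
    (h2 : ∀ i j, i ≠ j → (x i * x j) ^ 2 ∈ K) (hgen : closure (Set.range x) ⊔ K = ⊤) {q4 q5 s t : H}
    (h4 : q4 ^ 4 ∈ K) (h4' : q4 ^ 2 ∉ K) (h5 : q5 ^ 5 ∈ K) (h5' : q5 ∉ K) (hs : s ^ 3 ∈ K) (ht : t ^ 3 ∈ K)
    (hst : ⁅s, t⁆ ∈ K) (hs' : s ∉ K) (hts : ∀ i : ℕ, i < 3 → t * s ^ i ∉ K) : Nat.card K ∣ 3 := by
  haveI hN : K.Normal := Cfsg.Agent.H51.Mult.normal_of_le_center hKc
  set q : H →* H ⧸ K := QuotientGroup.mk' K with hq
  have hqs : Function.Surjective q := QuotientGroup.mk'_surjective K
  have hker : q.ker = K := QuotientGroup.ker_mk' K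
  have q1 : ∀ h : H, q h = 1 ↔ h ∈ K := fun h => by rw [← MonoidHom.mem_ker, hker]
  haveI : Finite (H ⧸ K) := inferInstance
  -- the order of the quotient
  obtain ⟨hc, -⟩ := Cfsg.Agent.SmallSimple.Carmichael.card_le (fun i => q (x i))
    (fun i => by rw [← map_pow, q1]; exact h3 i)
    (fun i j hij => by rw [← map_mul, ← map_pow, q1]; exact h2 i j hij) (Finset.univ : Finset (Fin 4))
  have htop : closure ((fun i => q (x i)) '' ((Finset.univ : Finset (Fin 4)) : Set (Fin 4))) = ⊤ := by
    have e1 : (fun i => q (x i)) '' ((Finset.univ : Finset (Fin 4)) : Set (Fin 4)) = q '' Set.range x := by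
      rw [Finset.coe_univ, Set.image_univ, ← Set.range_comp]; rfl
    rw [e1, ← MonoidHom.map_closure]
    have e2 : (closure (Set.range x) ⊔ K).map q = ⊤ := by
      rw [hgen, ← MonoidHom.range_eq_map, MonoidHom.range_eq_top]; exact hqs
    rw [Subgroup.map_sup] at e2
    have e3 : K.map q = ⊥ := by
      rw [eq_bot_iff]
      rintro _ ⟨k, hk, rfl⟩
      rw [Subgroup.mem_bot, q1]; exact hk
    rwa [e3, sup_bot_eq] at e2
  rw [htop, Subgroup.card_top, Finset.card_univ, Fintype.card_fin] at hc
  have hc' : Nat.card (H ⧸ K) ≤ 360 := by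
    have : (4 + 2).factorial = 720 := by decide
    rw [this] at hc
    omega
  have hpos : 0 < Nat.card (H ⧸ K) := Nat.card_pos
  -- divisibility
  have d4 : 4 ∣ Nat.card (H ⧸ K) := by
    have e1 : orderOf (q q4) = 2 ^ (1 + 1) := by
      apply orderOf_eq_prime_pow
      · rw [pow_one, ← map_pow, q1]; exact h4'
      · rw [← map_pow, q1]; exact h4
    have := orderOf_dvd_natCard (q q4)
    rw [e1] at this
    exact this
  have d5 : 5 ∣ Nat.card (H ⧸ K) := by
    haveI : Fact (Nat.Prime 5) := ⟨by norm_num⟩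
    have e1 : orderOf (q q5) = 5 := by
      apply orderOf_eq_prime
      · rw [← map_pow, q1]; exact h5
      · rw [Ne, q1]; exact h5'
    have := orderOf_dvd_natCard (q q5)
    rwa [e1] at this
  have n27 : ¬ 3 ^ 3 ∣ Nat.card (H ⧸ K) := by
    intro h27
    have h1 : 4 * 5 ∣ Nat.card (H ⧸ K) := Nat.Coprime.mul_dvd_of_dvd_of_dvd (by norm_num) d4 d5
    have h2 : 4 * 5 * 3 ^ 3 ∣ Nat.card (H ⧸ K) := Nat.Coprime.mul_dvd_of_dvd_of_dvd (by norm_num) h1 h27
    have := Nat.le_of_dvd hpos h2
    omega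
  -- the Sylow subgroup
  have hs3 : q s ^ 3 = 1 := by rw [← map_pow, q1]; exact hs
  have ht3 : q t ^ 3 = 1 := by rw [← map_pow, q1]; exact ht
  have hstc : q s * q t = q t * q s := by
    rw [← commutatorElement_eq_one_iff_mul_comm, ← map_commutatorElement, q1]; exact hst
  have hs1 : q s ≠ 1 := by rw [Ne, q1]; exact hs'
  have htz : q t ∉ zpowers (q s) := by
    intro hm
    obtain ⟨n, hn⟩ := mem_zpowers_iff.1 hm
    have e1 : ∃ i : ℕ, i < 3 ∧ q t * q s ^ i = 1 := by
      refine ⟨((-n) % 3).toNat, by omega, ?_⟩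
      rw [← hn]
      have h0 : (0 : ℤ) ≤ (-n) % 3 := Int.emod_nonneg _ (by norm_num)
      rw [← zpow_natCast, Int.toNat_of_nonneg h0, ← zpow_add]
      have h1 : n + (-n) % 3 = 3 * (-((-n) / 3)) := by omega
      rw [h1, zpow_mul, show (q s) ^ (3 : ℤ) = q s ^ 3 from zpow_natCast (q s) 3, hs3, one_zpow]
    obtain ⟨i, hi, h1⟩ := e1
    rw [← map_pow, ← map_mul, q1] at h1
    exact hts i hi h1
  have hidx := Cfsg.Agent.H51.Tools.not_dvd_index_sq (by norm_num : Nat.Prime 3) hs3 ht3 hstc hs1 htz n27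
  have := Pairs.card_dvd_pair hH hqs (by rw [hker]; exact hKc) (by norm_num : Nat.Prime 3) (by rw [hker]; exact hK)
    hidx hstc hs3 le_rfl
  rwa [hker] at this

/-- value of a word -/
def E {G : Type*} [Group G] (v : ℕ → G) (l : List ℕ) : G := (l.map v).prod

theorem E_app {G : Type*} [Group G] (v : ℕ → G) (l l' : List ℕ) : E v (l ++ l') = E v l * E v l' := by simp [E]

theorem map_E {G G' : Type*} [Group G] [Group G'] (f : G →* G') (v : ℕ → G) (l : List ℕ) :
    f (E v l) = E (fun i => f (v i)) l := by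
  rw [E, map_list_prod, List.map_map]; rfl

/-- the Carmichael generators as words -/
def cw : Fin 4 → List ℕ
  | 0 => [0, 1]
  | 1 => [1, 0, 2, 1, 0, 2, 0, 1, 2]
  | 2 => [2, 0, 1, 2, 1, 0, 2, 1, 0]
  | 3 => [0, 1, 0, 2, 1, 0, 2, 0, 1, 2, 1]

/-- a second generator of a Sylow 3-subgroup -/
def tw : List ℕ := [0, 2, 0, 1, 0, 2, 1, 2, 0, 1, 2]

/-- the data in `X` -/
structure Data {X : Type*} [Group X] (v : ℕ → X) (z : X) : Prop where
  z3 : z ^ 3 = 1
  zc : ∀ i, z * v i = v i * z
  car3 : ∀ i, E v (cw i) ^ 3 ∈ zpowers z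
  car2 : ∀ i j, i < j → (E v (cw i) * E v (cw j)) ^ 2 ∈ zpowers z
  gx : (E v (cw 0) * E v (cw 0) * E v (cw 1) * E v (cw 3) * E v (cw 3) * E v (cw 1))⁻¹ * v 0 ∈ zpowers z
  gy : (E v (cw 0) * E v (cw 1) * E v (cw 3) * E v (cw 3) * E v (cw 1))⁻¹ * v 1 ∈ zpowers z
  gw : (E v (cw 1) * E v (cw 2))⁻¹ * v 2 ∈ zpowers z
  q4 : E v [1, 2] ^ 4 ∈ zpowers z
  q4' : E v [1, 2] ^ 2 * v 0 ≠ v 0 * E v [1, 2] ^ 2
  q5 : E v [0, 1, 2] ^ 5 ∈ zpowers z
  q5' : E v [0, 1, 2] * v 0 ≠ v 0 * E v [0, 1, 2]
  t3 : E v tw ^ 3 ∈ zpowers z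
  st : ⁅E v (cw 0), E v tw⁆ ∈ zpowers z
  s' : E v (cw 0) * v 0 ≠ v 0 * E v (cw 0)
  ts : ∀ i : ℕ, i < 3 → (E v tw * E v (cw 0) ^ i) * v 0 ≠ v 0 * (E v tw * E v (cw 0) ^ i)

/-- **The cubes of the elements over `⟨z⟩` are trivial.** -/
theorem cube_eq_one {L : Type u} {X : Type v} [Group L] [Group X] [Finite L] {π : L →* X} (hc : π.ker ≤ center L)
    (hP : IsPGroup 3 π.ker) {V : ℕ → L} {z : X} (hV : ∀ i, V (i + 2) = V 2) (h0 : V 0 * V 0 = 1)
    (h1 : V 1 * V 1 = 1) (h2 : V 2 * V 2 = 1) (h01 : (V 0 * V 1) ^ 3 = 1) (h02 : (V 0 * V 2) ^ 3 = 1)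
    (D : Data (fun i => π (V i)) z) {k : L} (hk : k ∈ closure (Set.range V)) (hkz : π k ∈ zpowers z) :
    k ^ 3 = 1 := by
  set H : Subgroup L := closure (Set.range V) with hH
  let W : ℕ → H := fun i => ⟨V i, subset_closure ⟨i, rfl⟩⟩
  have hW : ∀ i, H.subtype (W i) = V i := fun i => rfl
  have hWgen : closure (Set.range W) = ⊤ := by
    have e1 : (closure (Set.range W)).map H.subtype = (⊤ : Subgroup H).map H.subtype := by
      rw [MonoidHom.map_closure, ← Set.range_comp, ← MonoidHom.range_eq_map, Subgroup.range_subtype]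
      rfl
    exact Subgroup.map_injective H.subtype_injective e1
  -- `H` is perfect
  have hperf : commutator H = ⊤ := by
    have hker : (Abelianization.of (G := H)).ker = commutator H := Abelianization.ker_of H
    rw [← hker, eq_top_iff, ← hWgen, closure_le]
    have w0 : W 0 * W 0 = 1 := Subtype.ext h0
    have w1 : W 1 * W 1 = 1 := Subtype.ext h1
    have w2 : W 2 * W 2 = 1 := Subtype.ext h2
    have w01 : (W 0 * W 1) ^ 3 = 1 := Subtype.ext h01
    have w02 : (W 0 * W 2) ^ 3 = 1 := Subtype.ext h02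
    set a := Abelianization.of (W 0) with ha
    set b := Abelianization.of (W 1) with hb
    set c := Abelianization.of (W 2) with hcc
    have a0 : a * a = 1 := by rw [ha, ← map_mul, w0, map_one]
    have b0 : b * b = 1 := by rw [hb, ← map_mul, w1, map_one]
    have c0 : c * c = 1 := by rw [hcc, ← map_mul, w2, map_one]
    have ab : a = b := by
      have e : (a * b) ^ 3 = 1 := by rw [ha, hb, ← map_mul, ← map_pow, w01, map_one]
      have e2 : (a * b) ^ 3 = (a * a) * (b * b) * (a * b) := by
        rw [mul_pow, pow_succ, pow_two, pow_succ, pow_two]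
        exact mul_mul_mul_comm _ _ _ _
      rw [e2, a0, b0, one_mul, one_mul] at e
      calc a = a * (b * b) := by rw [b0, mul_one]
        _ = (a * b) * b := by rw [mul_assoc]
        _ = b := by rw [e, one_mul]
    have ac : a = c := by
      have e : (a * c) ^ 3 = 1 := by rw [ha, hcc, ← map_mul, ← map_pow, w02, map_one]
      have e2 : (a * c) ^ 3 = (a * a) * (c * c) * (a * c) := by
        rw [mul_pow, pow_succ, pow_two, pow_succ, pow_two]
        exact mul_mul_mul_comm _ _ _ _
      rw [e2, a0, c0, one_mul, one_mul] at e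
      calc a = a * (c * c) := by rw [c0, mul_one]
        _ = (a * c) * c := by rw [mul_assoc]
        _ = c := by rw [e, one_mul]
    -- odd order
    have hodd : ∃ n : ℕ, (V 0 * V 1 * V 2) ^ (2 * n + 1) = 1 := by
      obtain ⟨j, hj⟩ := mem_zpowers_iff.1 D.q5
      have e1 : π ((V 0 * V 1 * V 2) ^ 15) = 1 := by
        have e2 : E (fun i => π (V i)) [0, 1, 2] = π (V 0 * V 1 * V 2) := by
          rw [← map_E]; simp [E, mul_assoc]
        rw [e2] at hj
        rw [map_pow, show 15 = 5 * 3 by norm_num, pow_mul, ← hj, ← zpow_natCast, ← zpow_mul, mul_comm, zpow_mul,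
          zpow_natCast, D.z3, one_zpow]
      obtain ⟨m, hm⟩ := hP ⟨_, MonoidHom.mem_ker.2 e1⟩
      have e3 : ((V 0 * V 1 * V 2) ^ 15) ^ 3 ^ m = 1 := congrArg Subtype.val hm
      rw [← pow_mul] at e3
      have e4 : Odd (15 * 3 ^ m) := (by decide : Odd 15).mul ((by decide : Odd 3).pow)
      obtain ⟨n, hn⟩ := e4
      exact ⟨n, by rw [← hn]; exact e3⟩
    have a1 : a = 1 := by
      obtain ⟨n, hn⟩ := hodd
      have e1 : (W 0 * W 1 * W 2) ^ (2 * n + 1) = 1 := Subtype.ext hn
      have e2 : (a * b * c) ^ (2 * n + 1) = 1 := by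
        rw [ha, hb, hcc, ← map_mul, ← map_mul, ← map_pow, e1, map_one]
      rw [← ab, ← ac, a0, one_mul, pow_succ, pow_mul, pow_two, a0, one_pow, one_mul] at e2
      exact e2
    rintro _ ⟨i, rfl⟩
    rw [SetLike.mem_coe, MonoidHom.mem_ker]
    match i with
    | 0 => exact a1
    | 1 => exact ab.symm.trans a1
    | i + 2 =>
      have : W (i + 2) = W 2 := Subtype.ext (hV i)
      rw [this]
      exact ac.symm.trans a1
  -- `K`
  let K : Subgroup H := (zpowers z).comap (π.comp H.subtype)
  have hKm : ∀ g : H, g ∈ K ↔ π g ∈ zpowers z := fun g => Iff.rfl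
  have hzH : ∀ g : H, z * π g = π g * z := by
    rintro ⟨g, hg⟩
    have e1 : H ≤ (centralizer {z}).comap π := by
      rw [hH, closure_le]
      rintro _ ⟨i, rfl⟩
      rw [SetLike.mem_coe, mem_comap, mem_centralizer_singleton_iff]
      exact (D.zc i).symm
    exact (mem_centralizer_singleton_iff.1 (e1 hg)).symm
  have hKc : K ≤ center H := by
    intro g hg
    apply central_of_perfect hperf
    intro h
    have e1 : (⁅g, h⁆ : H).1 ∈ center L := by
      apply hc
      rw [MonoidHom.mem_ker]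
      have e2 : π (⁅g, h⁆ : H).1 = ⁅π g, π h⁆ := by
        show π ⁅(g : L), (h : L)⁆ = _
        rw [map_commutatorElement]
      rw [e2, commutatorElement_eq_one_iff_mul_comm]
      obtain ⟨j, hj⟩ := mem_zpowers_iff.1 ((hKm g).1 hg)
      rw [← hj]
      exact (Commute.zpow_left (show Commute z (π h) from hzH h) j)
    rw [mem_center_iff]
    intro y
    exact Subtype.ext (mem_center_iff.1 e1 y)
  have hK3 : ∀ g ∈ K, π (g : L) ^ 3 = 1 := by
    intro g hg
    obtain ⟨j, hj⟩ := mem_zpowers_iff.1 ((hKm g).1 hg)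
    rw [← hj, ← zpow_natCast, ← zpow_mul, mul_comm, zpow_mul, zpow_natCast, D.z3, one_zpow]
  have hKP : IsPGroup 3 K := by
    rintro ⟨g, hg⟩
    have e1 : π ((g : L) ^ 3) = 1 := by rw [map_pow]; exact hK3 g hg
    obtain ⟨m, hm⟩ := hP ⟨_, MonoidHom.mem_ker.2 e1⟩
    have e3 : ((g : L) ^ 3) ^ 3 ^ m = 1 := congrArg Subtype.val hm
    refine ⟨m + 1, Subtype.ext (Subtype.ext ?_)⟩
    show (g : L) ^ 3 ^ (m + 1) = 1
    rw [pow_succ', pow_mul]
    exact e3
  have hE : ∀ l, π ((E W l : H) : L) = E (fun i => π (V i)) l := by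
    intro l
    have : ((E W l : H) : L) = E V l := by
      show H.subtype (E W l) = _
      rw [map_E]; rfl
    rw [this, map_E]
  have nK : ∀ g : H, π (g : L) * π (V 0) ≠ π (V 0) * π (g : L) → g ∉ K := by
    intro g hg hgK
    apply hg
    have e1 := mem_center_iff.1 (hKc hgK) (W 0)
    have e2 : V 0 * (g : L) = (g : L) * V 0 := congrArg Subtype.val e1
    rw [← map_mul, ← map_mul, e2]
  have hcard : Nat.card K ∣ 3 := by
    refine card_dvd_three hperf hKc hKP (fun i => E W (cw i)) ?_ ?_ ?_ (q4 := E W [1, 2]) (q5 := E W [0, 1, 2])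
      (s := E W (cw 0)) (t := E W tw) ?_ ?_ ?_ ?_ ?_ ?_ ?_ ?_ ?_
    · intro i
      show π _ ∈ zpowers z
      have := D.car3 i
      rw [← hE, ← map_pow] at this
      exact this
    · have key : ∀ i j, i < j → (E W (cw i) * E W (cw j)) ^ 2 ∈ K := by
        intro i j hij
        show π _ ∈ zpowers z
        have := D.car2 i j hij
        rw [← hE, ← hE, ← map_mul, ← map_pow] at this
        exact this
      intro i j hij
      rcases lt_or_gt_of_ne hij with h | h
      · exact key i j h
      · have e1 := key j i h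
        have e2 : (E W (cw i) * E W (cw j)) ^ 2 =
            E W (cw i) * (E W (cw j) * E W (cw i)) ^ 2 * (E W (cw i))⁻¹ := by
          rw [pow_two, pow_two]; group
        rw [e2, mem_center_iff.1 (hKc e1), mul_inv_cancel_right]
        exact e1
    · rw [eq_top_iff, ← hWgen, closure_le]
      have m : ∀ i, E W (cw i) ∈ closure (Set.range fun i => E W (cw i)) := fun i => subset_closure ⟨i, rfl⟩
      have hx : ∀ (u g : H), u ∈ closure (Set.range fun i => E W (cw i)) → π (((u⁻¹ * g : H)) : L) ∈ zpowers z →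
          g ∈ closure (Set.range fun i => E W (cw i)) ⊔ K := by
        intro u g hu hg
        have e1 : g = u * (u⁻¹ * g) := by group
        rw [e1]
        exact mul_mem (mem_sup_left hu) (mem_sup_right hg)
      rintro _ ⟨i, rfl⟩
      match i with
      | 0 =>
        refine hx (E W (cw 0) * E W (cw 0) * E W (cw 1) * E W (cw 3) * E W (cw 3) * E W (cw 1)) _ ?_ ?_
        · exact mul_mem (mul_mem (mul_mem (mul_mem (mul_mem (m 0) (m 0)) (m 1)) (m 3)) (m 3)) (m 1)
        · have := D.gx
          simp only [← hE, ← map_mul, ← map_inv] at this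
          exact this
      | 1 =>
        refine hx (E W (cw 0) * E W (cw 1) * E W (cw 3) * E W (cw 3) * E W (cw 1)) _ ?_ ?_
        · exact mul_mem (mul_mem (mul_mem (mul_mem (m 0) (m 1)) (m 3)) (m 3)) (m 1)
        · have := D.gy
          simp only [← hE, ← map_mul, ← map_inv] at this
          exact this
      | i + 2 =>
        have e1 : W (i + 2) = W 2 := Subtype.ext (hV i)
        rw [e1]
        refine hx (E W (cw 1) * E W (cw 2)) _ ?_ ?_
        · exact mul_mem (m 1) (m 2)
        · have := D.gw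
          simp only [← hE, ← map_mul, ← map_inv] at this
          exact this
    · show π _ ∈ zpowers z
      have := D.q4
      rw [← hE, ← map_pow] at this
      exact this
    · apply nK
      have := D.q4'
      rw [← hE, ← map_pow] at this
      exact this
    · show π _ ∈ zpowers z
      have := D.q5
      rw [← hE, ← map_pow] at this
      exact this
    · apply nK
      have := D.q5'
      rw [← hE] at this
      exact this
    · show π _ ∈ zpowers z
      have := D.car3 0
      rw [← hE, ← map_pow] at this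
      exact this
    · show π _ ∈ zpowers z
      have := D.t3
      rw [← hE, ← map_pow] at this
      exact this
    · show π _ ∈ zpowers z
      have := D.st
      rw [← hE, ← hE, ← map_commutatorElement] at this
      exact this
    · apply nK
      have := D.s'
      rw [← hE] at this
      exact this
    · intro i hi
      apply nK
      have := D.ts i hi
      rw [← hE, ← hE, ← map_pow, ← map_mul] at this
      exact this
  have hkK : (⟨k, hk⟩ : H) ∈ K := hkz
  have e1 : (⟨⟨k, hk⟩, hkK⟩ : K) ^ 3 = 1 := by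
    obtain ⟨m, hm⟩ := hcard
    rw [hm, pow_mul, pow_card_eq_one', one_pow]
  exact congrArg (fun g : K => ((g : H) : L)) e1

end Cfsg.Agent.H58.ASix
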